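import Cfsg.Agent.MaxSub.Frame.Axis

/-!
A subgroup containing all determinant one matrices permuting `t` blocks of size `m ≥ 2`, and one further
element, contains the special linear group (`|F| ≥ 3` or `m ≥ 3`) (helper74).
-/

set_option autoImplicit false

namespace Cfsg.Agent.MaxSub.Frame

open Matrix
open scoped MatrixGroups

variable {m t : ℕ} {F : Type*} [Field F]

/-- The block `l` is sent to the block `σ l`. -/
def BlockAt (σ : Fin t → Fin t) (g : Matrix (Fin m × Fin t) (Fin m × Fin t) F) : Prop :=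
  ∀ x y, x.2 ≠ σ y.2 → g x y = 0

/-- Matrices permuting the blocks. -/
def BlockPerm (g : GL (Fin m × Fin t) F) : Prop :=
  ∃ σ : Fin t → Fin t, BlockAt σ (g : Matrix (Fin m × Fin t) (Fin m × Fin t) F)

/-- `M` contains every determinant one matrix permuting the blocks. -/
def HasBlocks (M : Subgroup (GL (Fin m × Fin t) F)) : Prop :=
  ∀ g, BlockPerm g → Matrix.GeneralLinearGroup.det g = 1 → g ∈ M

/-- A vector placed in block `l`. -/
def inj (l : Fin t) (z : Fin m → F) : Fin m × Fin t → F := fun x => if x.2 = l then z x.1 else 0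

/-- The component in block `l`. -/
def res (l : Fin t) (z : Fin m × Fin t → F) : Fin m → F := fun a => z (a, l)

@[simp] theorem inj_apply (l : Fin t) (z : Fin m → F) (a : Fin m) : inj l z (a, l) = z a := by simp [inj]

theorem inj_apply_ne {l k : Fin t} (h : k ≠ l) (z : Fin m → F) (a : Fin m) : inj l z (a, k) = 0 := by
  simp [inj, h]

theorem inj_eq_zero_of_ne {l : Fin t} {x : Fin m × Fin t} (h : x.2 ≠ l) (z : Fin m → F) :
    inj l z x = 0 := by simp [inj, h]

theorem inj_ne_zero {l : Fin t} {z : Fin m → F} (h : z ≠ 0) : inj l z ≠ 0 := fun e =>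
  h (funext fun a => by simpa using congrFun e (a, l))

theorem inj_dotProduct (l : Fin t) (χ : Fin m → F) (z : Fin m × Fin t → F) :
    inj l χ ⬝ᵥ z = χ ⬝ᵥ res l z := by
  simp only [dotProduct, res, inj, Fintype.sum_prod_type]
  refine Finset.sum_congr rfl fun a _ => ?_
  rw [Finset.sum_eq_single l (fun k _ hk => by simp [hk]) (by simp)]
  simp

theorem dotProduct_inj (l : Fin t) (χ : Fin m → F) (z : Fin m × Fin t → F) :
    z ⬝ᵥ inj l χ = res l z ⬝ᵥ χ := by
  rw [dotProduct_comm, inj_dotProduct, dotProduct_comm]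

@[simp] theorem res_inj (l : Fin t) (z : Fin m → F) : res l (inj l z) = z := by funext a; simp [res]

theorem res_inj_ne {l k : Fin t} (h : k ≠ l) (z : Fin m → F) : res k (inj l z) = 0 := by
  funext a; exact inj_apply_ne h z a

theorem single_eq_inj (a : Fin m) (l : Fin t) (c : F) :
    (Pi.single (a, l) c : Fin m × Fin t → F) = inj l (Pi.single a c) := by
  funext x
  obtain ⟨b, k⟩ := x
  by_cases hk : k = l
  · subst hk
    by_cases hb : b = a
    · subst hb; simp
    · simp [Pi.single_eq_of_ne hb, hb]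
  · simp [inj_apply_ne hk, hk]

theorem smul_inj (l : Fin t) (c : F) (z : Fin m → F) : c • inj l z = inj l (c • z) := by
  funext x; simp [inj]

/-- A non-zero vector orthogonal to fewer than `m` vectors. -/
theorem exists_perp {k : ℕ} (hk : k < m) (A : Fin k → Fin m → F) :
    ∃ χ : Fin m → F, χ ≠ 0 ∧ ∀ i, χ ⬝ᵥ A i = 0 := by
  let L : (Fin m → F) →ₗ[F] (Fin k → F) := Matrix.mulVecLin (Matrix.of A)
  have h : L.ker ≠ ⊥ := LinearMap.ker_ne_bot_of_finrank_lt (by simpa using hk)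
  obtain ⟨χ, hχ, hne⟩ := Submodule.exists_mem_ne_zero_of_ne_bot h
  exact ⟨χ, hne, fun i => by rw [dotProduct_comm]; exact congrFun (LinearMap.mem_ker.mp hχ) i⟩

theorem HasBlocks.tv_mem {M : Subgroup (GL (Fin m × Fin t) F)} (hM : HasBlocks M) (l : Fin t)
    {v φ : Fin m → F} (h : φ ⬝ᵥ v = 0) : inj l φ ∈ dualSet M (inj l v) := by
  have h0 : inj l φ ⬝ᵥ inj l v = 0 := by rw [inj_dotProduct, res_inj, h]
  refine ⟨h0, hM _ ⟨id, fun x y hxy => ?_⟩ (det_tv _ _)⟩
  rw [tv_coe h0, Matrix.add_apply, vecMulVec_apply,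
    one_apply_ne (fun e => hxy (by rw [e]; rfl)), zero_add]
  by_cases hx : x.2 = l
  · rw [inj_eq_zero_of_ne (l := l) (x := y) (fun e => hxy (hx.trans e.symm)), mul_zero]
  · rw [inj_eq_zero_of_ne hx, zero_mul]

/-- Some vector of a block has an image in two blocks. -/
theorem exists_two_blocks [NeZero m] {g : GL (Fin m × Fin t) F} (hg : ¬ BlockPerm g) :
    ∃ (l : Fin t) (v : Fin m → F), v ≠ 0 ∧ ∃ j j' : Fin t, j ≠ j' ∧
      res j ((g : Matrix (Fin m × Fin t) (Fin m × Fin t) F) *ᵥ inj l v) ≠ 0 ∧ res j' ((g : Matrix (Fin m × Fin t) (Fin m × Fin t) F) *ᵥ inj l v) ≠ 0 := by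
  classical
  by_contra hno
  set G : Matrix (Fin m × Fin t) (Fin m × Fin t) F := (g : Matrix (Fin m × Fin t) (Fin m × Fin t) F) with hG
  have hc : ∀ l v x x', (G *ᵥ inj l v) x ≠ 0 → (G *ᵥ inj l v) x' ≠ 0 → x.2 = x'.2 := by
    intro l v x x' h h'
    by_contra hne
    refine hno ⟨l, v, fun e => ?_, x.2, x'.2, hne, fun e => h (congrFun e x.1), fun e => h' (congrFun e x'.1)⟩
    subst e
    apply h
    have : inj l (0 : Fin m → F) = 0 := by funext y; simp [inj]
    rw [this, mulVec_zero]; rfl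
  have hcol : ∀ (b : Fin m) (l : Fin t) x, (G *ᵥ inj l (Pi.single b 1)) x = G x (b, l) := fun b l x => by
    rw [← single_eq_inj, mulVec_single_one]; rfl
  choose f hf using col_ne_zero g
  refine hg ⟨fun l => (f (0, l)).2, fun x y hxy => ?_⟩
  obtain ⟨b, l⟩ := y
  by_contra hne
  set x0 := f (0, l) with hx0
  have hx00 : G x0 (0, l) ≠ 0 := hf _
  by_cases hb : b = 0
  · subst hb
    exact hxy (hc l (Pi.single 0 1) x x0 (by rwa [hcol]) (by rwa [hcol]))
  have e1 : G x (0, l) = 0 := by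
    by_contra h
    exact hxy (hc l (Pi.single 0 1) x x0 (by rwa [hcol]) (by rwa [hcol]))
  have e2 : G x0 (b, l) = 0 := by
    by_contra h
    exact hxy (hc l (Pi.single b 1) x x0 (by rwa [hcol]) (by rwa [hcol]))
  have hsum : ∀ z, (G *ᵥ inj l (Pi.single b 1 + Pi.single 0 1)) z = G z (b, l) + G z (0, l) := fun z => by
    have : inj l (Pi.single b 1 + Pi.single 0 1 : Fin m → F) =
        inj l (Pi.single b 1) + inj l (Pi.single 0 1) := by
      funext y; simp only [inj, Pi.add_apply]; split_ifs <;> simp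
    rw [this, mulVec_add, Pi.add_apply, hcol, hcol]
  exact hxy (hc l _ x x0 (by rwa [hsum, e1, add_zero]) (by rwa [hsum, e2, zero_add]))

variable {M : Subgroup (GL (Fin m × Fin t) F)}

/-- A transvection from one block to another. -/
def HasCross (M : Subgroup (GL (Fin m × Fin t) F)) : Prop :=
  ∃ j l : Fin t, j ≠ l ∧ ∃ b χ : Fin m → F, b ≠ 0 ∧ χ ≠ 0 ∧ inj l χ ∈ dualSet M (inj j b)

/-- A functional in one block whose centre meets another block. -/
theorem HasBlocks.cross_of_single (hM : HasBlocks M) (hm : 2 ≤ m) {w : Fin m × Fin t → F} {l j : Fin t}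
    {χ : Fin m → F} (hjl : j ≠ l) (hw : res j w ≠ 0) (hχ : χ ≠ 0) (h : inj l χ ∈ dualSet M w) :
    HasCross M := by
  obtain ⟨p, hp⟩ := Function.ne_iff.mp hw
  obtain ⟨b, hb, hbp⟩ := exists_perp (show 1 < m by omega) fun _ => (Pi.single p 1 : Fin m → F)
  have hφ := hM.tv_mem j (v := b) (φ := Pi.single p 1) (by rw [dotProduct_comm]; exact hbp 0)
  have h2 := comm_mem_dualSet hφ h (by rw [inj_dotProduct, res_inj_ne hjl.symm, dotProduct_zero])
  refine ⟨j, l, hjl, b, _, hb, ?_, by rw [smul_inj] at h2; exact h2⟩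
  exact smul_ne_zero (by simpa [inj_dotProduct] using hp) hχ

/-- A component of the functional lying well. -/
theorem HasBlocks.cross_of_good (hM : HasBlocks M) (hm : 2 ≤ m) {w ψ : Fin m × Fin t → F}
    (hψ : ψ ∈ dualSet M w) {j j' : Fin t} (hjj : j ≠ j') (hj : res j w ≠ 0) (hj' : res j' w ≠ 0)
    {l : Fin t} (hl : res l ψ ≠ 0)
    (hgood : 3 ≤ m ∨ res l w = 0 ∨ res l ψ ⬝ᵥ res l w ≠ 0) : HasCross M := by
  obtain ⟨b, hb, χ, hχ, hχb, hχw⟩ : ∃ b, res l ψ ⬝ᵥ b ≠ 0 ∧
      ∃ χ : Fin m → F, χ ≠ 0 ∧ χ ⬝ᵥ b = 0 ∧ χ ⬝ᵥ res l w = 0 := by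
    obtain ⟨b₀, hb₀⟩ := exists_dotProduct_ne_zero hl
    rcases hgood with h | h | h
    · obtain ⟨χ, h1, h2⟩ := exists_perp (show 2 < m by omega) ![b₀, res l w]
      exact ⟨b₀, hb₀, χ, h1, h2 0, h2 1⟩
    · obtain ⟨χ, h1, h2⟩ := exists_perp (show 1 < m by omega) fun _ => b₀
      exact ⟨b₀, hb₀, χ, h1, h2 0, by rw [h, dotProduct_zero]⟩
    · obtain ⟨χ, h1, h2⟩ := exists_perp (show 1 < m by omega) fun _ => res l w
      exact ⟨_, h, χ, h1, h2 0, h2 0⟩
  have h2 := comm_mem_dualSet hψ (hM.tv_mem l hχb) (by rw [inj_dotProduct, hχw])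
  rw [dotProduct_inj, smul_inj] at h2
  by_cases hjl : j = l
  · exact hM.cross_of_single hm (fun e => hjj (hjl.trans e.symm)) hj' (smul_ne_zero hb hχ) h2
  · exact hM.cross_of_single hm hjl hj (smul_ne_zero hb hχ) h2

/-- The homology `z ↦ z + (d - 1) (α ⬝ z) u`. -/
def hmg {ι : Type} [Fintype ι] [DecidableEq ι] (u α : ι → F) (d : Fˣ) (h : α ⬝ᵥ u = 1) : GL ι F :=
  ⟨1 + vecMulVec (((d : F) - 1) • u) α, 1 + vecMulVec ((((d⁻¹ : Fˣ) : F) - 1) • u) α,
    by
      rw [mul_add, mul_one, add_mul, one_mul, vecMulVec_mul_vecMulVec, add_assoc]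
      nth_rewrite 2 [show (1 : Matrix ι ι F) = 1 + 0 by simp]
      congr 1
      ext a b
      simp [dotProduct_smul, h, vecMulVec_apply, Matrix.add_apply]
      field_simp
      ring,
    by
      rw [mul_add, mul_one, add_mul, one_mul, vecMulVec_mul_vecMulVec, add_assoc]
      nth_rewrite 2 [show (1 : Matrix ι ι F) = 1 + 0 by simp]
      congr 1
      ext a b
      simp [dotProduct_smul, h, vecMulVec_apply, Matrix.add_apply]
      field_simp
      ring⟩

theorem hmg_mulVec {ι : Type} [Fintype ι] [DecidableEq ι] (u α : ι → F) (d : Fˣ) (h : α ⬝ᵥ u = 1)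
    (z : ι → F) : (hmg u α d h : Matrix ι ι F) *ᵥ z = z + (α ⬝ᵥ z) • ((d : F) - 1) • u := by
  show (1 + vecMulVec (((d : F) - 1) • u) α) *ᵥ z = _
  rw [add_mulVec, one_mulVec, vecMulVec_mulVec, op_smul_eq_smul]

theorem det_hmg {ι : Type} [Fintype ι] [DecidableEq ι] (u α : ι → F) (d : Fˣ) (h : α ⬝ᵥ u = 1) :
    Matrix.GeneralLinearGroup.det (hmg u α d h) = d := by
  refine Units.ext ?_
  rw [Matrix.GeneralLinearGroup.val_det_apply]
  show (1 + vecMulVec (((d : F) - 1) • u) α).det = _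
  rw [vecMulVec_eq Unit, det_one_add_replicateCol_mul_replicateRow, dotProduct_smul, h, smul_eq_mul]
  ring

theorem blockAt_hmg {l : Fin t} (u α : Fin m → F) (d : Fˣ) (h : inj l α ⬝ᵥ inj l u = 1) :
    BlockAt id (hmg (inj l u) (inj l α) d h : Matrix (Fin m × Fin t) (Fin m × Fin t) F) := by
  intro x y hxy
  show (1 + vecMulVec (((d : F) - 1) • inj l u) (inj l α)) x y = 0
  rw [Matrix.add_apply, vecMulVec_apply, one_apply_ne (fun e => hxy (by rw [e]; rfl)), zero_add]
  by_cases hx : x.2 = l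
  · rw [inj_eq_zero_of_ne (x := y) (fun e => hxy (hx.trans e.symm)), mul_zero]
  · rw [Pi.smul_apply, inj_eq_zero_of_ne hx, smul_zero, zero_mul]

theorem BlockAt.mul {g h : Matrix (Fin m × Fin t) (Fin m × Fin t) F} {σ τ : Fin t → Fin t}
    (hg : BlockAt σ g) (hh : BlockAt τ h) : BlockAt (σ ∘ τ) (g * h) := by
  intro x y hxy
  rw [Matrix.mul_apply]
  refine Finset.sum_eq_zero fun z _ => ?_
  by_cases hz : z.2 = τ y.2
  · rw [hg x z (fun e => hxy (by rw [e, hz]; rfl)), zero_mul]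
  · rw [hh z y hz, mul_zero]

/-- Members of dimension two, all components of the functional isotropic. -/
theorem HasBlocks.cross_of_two [Finite F] (hM : HasBlocks M) (hm : m = 2) (ht : 3 ≤ t) (hq : 3 ≤ Nat.card F)
    {w ψ : Fin m × Fin t → F} (hψ : ψ ∈ dualSet M w) {a b : Fin t} (hab : a ≠ b)
    (ha : res a ψ ≠ 0) (hb : res b ψ ≠ 0)
    (hiso : ∀ l, res l ψ ≠ 0 → res l w ≠ 0 ∧ res l ψ ⬝ᵥ res l w = 0) : HasCross M := by
  classical
  obtain ⟨δ, hδ⟩ : ∃ δ : Fˣ, δ ≠ 1 := by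
    by_contra hh
    push Not at hh
    haveI : Subsingleton Fˣ := ⟨fun a b => (hh a).trans (hh b).symm⟩
    have := Nat.card_units F
    rw [Nat.card_of_subsingleton (1 : Fˣ)] at this
    omega
  obtain ⟨c, hc⟩ : ∃ c, c ∉ ({a, b} : Finset (Fin t)) := by
    by_contra hh
    push Not at hh
    have := (Finset.card_le_card (show (Finset.univ : Finset (Fin t)) ⊆ {a, b} from fun x _ => hh x)).trans
      Finset.card_le_two
    rw [Finset.card_univ, Fintype.card_fin] at this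
    omega
  simp only [Finset.mem_insert, Finset.mem_singleton, not_or] at hc
  have frame : ∀ l, res l ψ ≠ 0 → ∃ u α : Fin m → F, res l ψ ⬝ᵥ u = 1 ∧ α ⬝ᵥ u = 0 ∧ α ⬝ᵥ res l w = 1 := by
    intro l hl
    obtain ⟨x, hx⟩ := exists_dotProduct_ne_zero hl
    set u := (res l ψ ⬝ᵥ x)⁻¹ • x with hu
    have h1 : res l ψ ⬝ᵥ u = 1 := by rw [hu, dotProduct_smul, smul_eq_mul, inv_mul_cancel₀ hx]
    have hnot : res l w ∉ Submodule.span F {u} := fun h => by
      obtain ⟨r, hr⟩ := Submodule.mem_span_singleton.mp h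
      have := (hiso l hl).2
      rw [← hr, dotProduct_smul, h1, smul_eq_mul, mul_one] at this
      exact (hiso l hl).1 (by rw [← hr, this, zero_smul])
    obtain ⟨α, hα, hαx⟩ := exists_annihilator hnot
    exact ⟨u, α, h1, hα u (Submodule.mem_span_singleton_self u), hαx⟩
  obtain ⟨ua, αa, a1, a2, a3⟩ := frame a ha
  obtain ⟨ub, αb, b1, b2, b3⟩ := frame b hb
  obtain ⟨αc, hαc, hαcw⟩ := exists_perp (show 1 < m by omega) fun _ => res c w
  obtain ⟨x, hx⟩ := exists_dotProduct_ne_zero hαc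
  set uc := (αc ⬝ᵥ x)⁻¹ • x with huc
  have c1 : αc ⬝ᵥ uc = 1 := by rw [huc, dotProduct_smul, smul_eq_mul, inv_mul_cancel₀ hx]
  have ψa : inj a (res a ψ) ⬝ᵥ inj a ua = 1 := by rw [inj_dotProduct, res_inj, a1]
  have ψc : inj c αc ⬝ᵥ inj c uc = 1 := by rw [inj_dotProduct, res_inj, c1]
  set D := hmg _ _ δ ψa * hmg _ _ δ⁻¹ ψc with hD
  have hDM : D ∈ M := hM D
    ⟨id ∘ id, by rw [hD, Units.val_mul]; exact (blockAt_hmg _ _ _ ψa).mul (blockAt_hmg _ _ _ ψc)⟩
    (by rw [hD, map_mul, det_hmg, det_hmg, mul_inv_cancel])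
  have hTa := hM.tv_mem a (v := ua) (φ := (δ : F) • αa) (by rw [smul_dotProduct, a2, smul_zero])
  have hTb := hM.tv_mem b (v := ub) (φ := (-1 : F) • αb) (by rw [smul_dotProduct, b2, smul_zero])
  set h := tv (inj a ua) (inj a ((δ : F) • αa)) * tv (inj b ub) (inj b ((-1 : F) • αb)) * D with hh
  have hhM : h ∈ M := mul_mem (mul_mem hTa.2 hTb.2) hDM
  have hh_mul : ∀ z, (h : Matrix (Fin m × Fin t) (Fin m × Fin t) F) *ᵥ z = (tv (inj a ua) (inj a ((δ : F) • αa)) : Matrix (Fin m × Fin t) (Fin m × Fin t) F) *ᵥ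
      ((tv (inj b ub) (inj b ((-1 : F) • αb)) : Matrix (Fin m × Fin t) (Fin m × Fin t) F) *ᵥ ((D : Matrix (Fin m × Fin t) (Fin m × Fin t) F) *ᵥ z)) := fun z => by
    rw [hh, Units.val_mul, Units.val_mul, mulVec_mulVec, mulVec_mulVec, Matrix.mul_assoc]
  have hDv : ∀ z, (D : Matrix (Fin m × Fin t) (Fin m × Fin t) F) *ᵥ z = z + (αc ⬝ᵥ res c z) • ((((δ⁻¹ : Fˣ) : F)) - 1) • inj c uc +
      (res a ψ ⬝ᵥ res a (z + (αc ⬝ᵥ res c z) • ((((δ⁻¹ : Fˣ) : F)) - 1) • inj c uc)) •
        ((δ : F) - 1) • inj a ua := fun z => by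
    rw [hD, Units.val_mul, ← mulVec_mulVec, hmg_mulVec, hmg_mulVec, inj_dotProduct, inj_dotProduct]
  have hTav : ∀ z, (tv (inj a ua) (inj a ((δ : F) • αa)) : Matrix (Fin m × Fin t) (Fin m × Fin t) F) *ᵥ z =
      z + ((δ : F) * (αa ⬝ᵥ res a z)) • inj a ua := fun z => by
    rw [tv_mulVec hTa.1, inj_dotProduct, smul_dotProduct, smul_eq_mul]
  have hTbv : ∀ z, (tv (inj b ub) (inj b ((-1 : F) • αb)) : Matrix (Fin m × Fin t) (Fin m × Fin t) F) *ᵥ z =
      z + (-(αb ⬝ᵥ res b z)) • inj b ub := fun z => by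
    rw [tv_mulVec hTb.1, inj_dotProduct, smul_dotProduct, smul_eq_mul, neg_one_mul]
  have ra : ∀ (x y : Fin m × Fin t → F) (l : Fin t) (r : F), res l (x + r • y) = res l x + r • res l y :=
    fun _ _ _ _ => rfl
  have rs : ∀ (y : Fin m × Fin t → F) (l : Fin t) (r : F), res l (r • y) = r • res l y := fun _ _ _ => rfl
  have radd : ∀ (x y : Fin m × Fin t → F) (l : Fin t), res l (x + y) = res l x + res l y := fun _ _ _ => rfl
  have rsub : ∀ (x y : Fin m × Fin t → F) (l : Fin t), res l (x - y) = res l x - res l y := fun _ _ _ => rfl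
  have hwa := (hiso a ha).2
  have hcw : αc ⬝ᵥ res c w = 0 := hαcw 0
  have e_hw : (h : Matrix (Fin m × Fin t) (Fin m × Fin t) F) *ᵥ w = w + (δ : F) • inj a ua - inj b ub := by
    rw [hh_mul, hDv, hcw]
    simp only [zero_smul, add_zero, hwa]
    rw [hTbv, b3, hTav, ra, res_inj_ne hab, smul_zero, add_zero, a3]
    funext i
    simp
    ring
  have e_z : ∀ z : Fin m × Fin t → F, (∀ l, l ≠ a → l ≠ b → res l z = res l w) →
      αc ⬝ᵥ res c z = 0 := fun z hz => by rw [hz c hc.1 hc.2, hcw]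
  have e_hz : (h : Matrix (Fin m × Fin t) (Fin m × Fin t) F) *ᵥ (w - inj a ua + inj b ub) = w := by
    rw [hh_mul, hDv, e_z _ (fun l h1 h2 => by rw [radd, rsub, res_inj_ne h1, res_inj_ne h2, sub_zero, add_zero])]
    simp only [zero_smul, add_zero]
    rw [radd, rsub, res_inj, res_inj_ne hab, add_zero, dotProduct_sub, hwa, a1, zero_sub]
    have hdd : w - inj a ua + inj b ub + (-1 : F) • ((δ : F) - 1) • inj a ua =
        w - (δ : F) • inj a ua + inj b ub := by funext i; simp; ring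
    rw [hdd, hTbv]
    rw [radd, rsub, rs, res_inj, res_inj_ne hab.symm, smul_zero, sub_zero, dotProduct_add, b3, b2, add_zero,
      hTav, ra, radd, rsub, rs, res_inj, res_inj_ne hab, smul_zero, add_zero, add_zero, dotProduct_sub,
      dotProduct_smul, a3, a2, smul_zero, sub_zero]
    funext i
    simp
  have e_ha : (h : Matrix (Fin m × Fin t) (Fin m × Fin t) F) *ᵥ (inj a (res a w) - inj a ua) = inj a (res a w) := by
    rw [hh_mul, hDv, show αc ⬝ᵥ res c (inj a (res a w) - inj a ua) = 0 by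
      rw [rsub, res_inj_ne hc.1, res_inj_ne hc.1, sub_zero, dotProduct_zero]]
    simp only [zero_smul, add_zero]
    rw [rsub, res_inj, res_inj, dotProduct_sub, hwa, a1, zero_sub]
    have hdd : inj a (res a w) - inj a ua + (-1 : F) • ((δ : F) - 1) • inj a ua =
        inj a (res a w) - (δ : F) • inj a ua := by funext i; simp; ring
    rw [hdd, hTbv, rsub, rs, res_inj_ne hab.symm, res_inj_ne hab.symm, smul_zero, sub_zero, dotProduct_zero,
      neg_zero, zero_smul, add_zero, hTav, rsub, rs, res_inj, res_inj, dotProduct_sub, dotProduct_smul,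
      a3, a2, smul_zero, sub_zero]
    funext i
    simp
  have hinv : ∀ z y, (h : Matrix (Fin m × Fin t) (Fin m × Fin t) F) *ᵥ z = y → ((h⁻¹ : GL (Fin m × Fin t) F) : Matrix (Fin m × Fin t) (Fin m × Fin t) F) *ᵥ y = z := fun z y e => by
    rw [← e, inv_mulVec_mulVec]
  set ψ' := ψ ᵥ* ((h⁻¹ : GL (Fin m × Fin t) F) : Matrix (Fin m × Fin t) (Fin m × Fin t) F) with hψ'
  have hψ'M : ψ' ∈ dualSet M ((h : Matrix (Fin m × Fin t) (Fin m × Fin t) F) *ᵥ w) := conj_mem_dualSet hhM hψ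
  have hz0 : ψ' ⬝ᵥ w = 0 := by
    rw [hψ', ← dotProduct_mulVec, hinv _ _ e_hz, dotProduct_add, dotProduct_sub, hψ.1, dotProduct_inj,
      dotProduct_inj, a1, b1]
    ring
  have hψhw : ψ ⬝ᵥ ((h : Matrix (Fin m × Fin t) (Fin m × Fin t) F) *ᵥ w) = (δ : F) - 1 := by
    rw [e_hw, dotProduct_sub, dotProduct_add, dotProduct_smul, hψ.1, dotProduct_inj, dotProduct_inj,
      a1, b1]
    simp
  have h2 := comm_mem_dualSet hψ hψ'M hz0
  rw [hψhw] at h2
  have hd : ((δ : F) - 1) ≠ 0 := sub_ne_zero.mpr fun e => hδ (Units.ext e)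
  have hcomp : res a (((δ : F) - 1) • ψ') ⬝ᵥ res a w ≠ 0 := by
    rw [rs, smul_dotProduct, ← dotProduct_inj, hψ', ← dotProduct_mulVec, hinv _ _ e_ha, dotProduct_sub,
      dotProduct_inj, dotProduct_inj, hwa, a1]
    intro e; simp at e; exact hd (by linear_combination -e)
  refine hM.cross_of_good (by omega) h2 hab (hiso a ha).1 (hiso b hb).1 (l := a) (fun e => hcomp ?_)
    (Or.inr (Or.inr hcomp))
  rw [e, zero_dotProduct]

/-- A cross transvection exists. -/
theorem HasBlocks.hasCross [Finite F] (hM : HasBlocks M) (hm : 2 ≤ m)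
    (hsmall : m = 2 → 3 ≤ t ∧ 3 ≤ Nat.card F) {g : GL (Fin m × Fin t) F} (hg : g ∈ M)
    (hgn : ¬ BlockPerm g) : HasCross M := by
  haveI : NeZero m := ⟨by omega⟩
  obtain ⟨i, v, hv, j, j', hjj, hj, hj'⟩ := exists_two_blocks hgn
  obtain ⟨φ, hφ, hφv⟩ := exists_perp (show 1 < m by omega) fun _ => v
  have hψ := conj_mem_dualSet hg (hM.tv_mem i (hφv 0))
  set w := (g : Matrix (Fin m × Fin t) (Fin m × Fin t) F) *ᵥ inj i v
  set ψ := inj i φ ᵥ* ((g⁻¹ : GL (Fin m × Fin t) F) : Matrix (Fin m × Fin t) (Fin m × Fin t) F) with hψdef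
  have hne : ψ ≠ 0 := fun e => inj_ne_zero (l := i) hφ (by
    have := congrArg (fun z => z ᵥ* (g : Matrix (Fin m × Fin t) (Fin m × Fin t) F)) e
    simpa [hψdef, vecMul_vecMul, Units.inv_mul] using this)
  obtain ⟨a, ha⟩ : ∃ a, res a ψ ≠ 0 := by
    obtain ⟨x, hx⟩ := Function.ne_iff.mp hne
    exact ⟨x.2, fun e => hx (congrFun e x.1)⟩
  by_cases hgood : ∃ l, res l ψ ≠ 0 ∧ (3 ≤ m ∨ res l w = 0 ∨ res l ψ ⬝ᵥ res l w ≠ 0)
  · obtain ⟨l, hl, hl'⟩ := hgood
    exact hM.cross_of_good hm hψ hjj hj hj' hl hl'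
  push Not at hgood
  obtain ⟨h3, -⟩ := hgood a ha
  by_cases hb : ∃ b, b ≠ a ∧ res b ψ ≠ 0
  · obtain ⟨b, hba, hb⟩ := hb
    obtain ⟨ht, hq⟩ := hsmall (by omega)
    exact hM.cross_of_two (by omega) ht hq hψ hba.symm ha hb fun l hl => (hgood l hl).2
  push Not at hb
  have hψa : ψ = inj a (res a ψ) := funext fun x => by
    by_cases hx : x.2 = a
    · obtain ⟨p, q⟩ := x; subst hx; simp [res]
    · rw [inj_eq_zero_of_ne hx]; exact congrFun (hb x.2 hx) x.1
  rw [hψa] at hψ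
  by_cases hja : j = a
  · exact hM.cross_of_single hm (fun e => hjj (hja.trans e.symm)) hj' ha hψ
  · exact hM.cross_of_single hm hja hj ha hψ

/-- An inner permutation of every block followed by a permutation of the blocks. -/
def blockEquiv (τ : Fin t → Equiv.Perm (Fin m)) (σ : Equiv.Perm (Fin t)) :
    Equiv.Perm (Fin m × Fin t) where
  toFun x := (τ x.2 x.1, σ x.2)
  invFun x := ((τ (σ.symm x.2)).symm x.1, σ.symm x.2)
  left_inv x := by simp
  right_inv x := by simp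

/-- A cross transvection generates. -/
theorem HasBlocks.specialLinear_le_of_cross (hM : HasBlocks M) (hm : 2 ≤ m) (hc : HasCross M) :
    Geo.specialLinear (Fin m × Fin t) F ≤ M := by
  obtain ⟨j, l, hjl, b, χ, hb, hχ, hmem⟩ := hc
  haveI : Nontrivial (Fin m) := Fin.nontrivial_iff_two_le.mpr hm
  obtain ⟨p, hp⟩ := Function.ne_iff.mp hb
  obtain ⟨p', hp'⟩ := Function.ne_iff.mp hχ
  obtain ⟨a, hap⟩ := exists_ne p
  obtain ⟨a', hap'⟩ := exists_ne p'
  -- one coordinate pair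
  have one : ∀ c : F, el (a, j) (a', l) c ∈ M := by
    intro c
    have h1 := comm_mem_dualSet (hM.tv_mem j (v := Pi.single a 1) (φ := Pi.single p 1)
      (by simp [hap.symm])) hmem (by rw [inj_dotProduct, res_inj_ne hjl.symm, dotProduct_zero])
    rw [inj_dotProduct, res_inj, single_dotProduct, one_mul] at h1
    have h2 := comm_mem_dualSet h1 (hM.tv_mem l (v := Pi.single p' 1)
      (φ := Pi.single a' (c / (b p * χ p'))) (by simp [hap'.symm]))
      (by rw [inj_dotProduct, res_inj_ne hjl.symm, dotProduct_zero])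
    rw [smul_dotProduct, inj_dotProduct, res_inj, dotProduct_single, mul_one, smul_inj, ← Pi.single_smul',
      ← single_eq_inj, ← single_eq_inj, smul_eq_mul, smul_eq_mul] at h2
    rw [el]
    have hcc : b p * χ p' * (c / (b p * χ p')) = c := mul_div_cancel₀ c (mul_ne_zero hp hp')
    rw [hcc] at h2
    exact h2.2
  refine specialLinear_le_of_el_mem fun x y hxy c => ?_
  obtain ⟨a₁, j₁⟩ := x
  obtain ⟨a₂, j₂⟩ := y
  by_cases hsame : j₁ = j₂
  · subst hsame
    have h := hM.tv_mem j₁ (v := Pi.single a₁ 1) (φ := Pi.single a₂ c) (by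
      simp [show a₁ ≠ a₂ from fun e => hxy (by rw [e])])
    rw [el, single_eq_inj, single_eq_inj]
    exact h.2
  set σ : Equiv.Perm (Fin t) := Equiv.swap (Equiv.swap j j₁ l) j₂ * Equiv.swap j j₁ with hσ
  have hne : j₁ ≠ Equiv.swap j j₁ l := fun h => hjl
    ((Equiv.swap j j₁).injective (by rw [Equiv.swap_apply_left]; exact h))
  have hσj : σ j = j₁ := by
    rw [hσ, Equiv.Perm.mul_apply, Equiv.swap_apply_left, Equiv.swap_apply_of_ne_of_ne hne hsame]
  have hσl : σ l = j₂ := by rw [hσ, Equiv.Perm.mul_apply, Equiv.swap_apply_left]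
  set τ : Fin t → Equiv.Perm (Fin m) := fun k => if k = j then Equiv.swap a a₁ else Equiv.swap a' a₂
  set π := blockEquiv τ σ with hπ
  have hπx : π (a, j) = (a₁, j₁) := by simp [hπ, blockEquiv, τ, hσj]
  have hπy : π (a', l) = (a₂, j₂) := by simp [hπ, blockEquiv, τ, hjl.symm, hσl]
  set u : Fin m × Fin t → Fˣ :=
    Function.update 1 (a, j) (Matrix.GeneralLinearGroup.det (pm π : GL (Fin m × Fin t) F))⁻¹ with hu
  set P := pm π * dg u with hP
  have hmon : MonAt π (P : Matrix (Fin m × Fin t) (Fin m × Fin t) F) := by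
    intro x y hxy
    rw [hP, Units.val_mul]
    exact ((mon_pm π).mul (mon_dg u)) x y hxy
  have hPM : P ∈ M := hM P ⟨σ, fun x y hxy => hmon x y fun e => hxy (by rw [e]; rfl)⟩
    (by rw [hP, map_mul, det_dg, hu, prod_update, mul_inv_cancel])
  have hne' : ((a, j) : Fin m × Fin t) ≠ (a', l) := fun e => hjl (congrArg Prod.snd e)
  set U := (P : Matrix (Fin m × Fin t) (Fin m × Fin t) F) (π (a, j)) (a, j) with hU
  set V := ((P⁻¹ : GL (Fin m × Fin t) F) : Matrix (Fin m × Fin t) (Fin m × Fin t) F) (a', l) (π (a', l)) with hV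
  have hU0 : U ≠ 0 := hmon.ne_zero _
  have hV0 : V ≠ 0 := by
    have := (hmon.inv).ne_zero (π (a', l))
    simpa [hV] using this
  have h := mul_mem (mul_mem hPM (one (c / (U * V)))) (inv_mem hPM)
  rw [el, tv_conj _ (el_ortho hne' _), hmon.mulVec_single] at h
  have hf : (Pi.single (a', l) (c / (U * V)) : Fin m × Fin t → F) ᵥ*
      ((P⁻¹ : GL (Fin m × Fin t) F) : Matrix (Fin m × Fin t) (Fin m × Fin t) F) = Pi.single (π (a', l)) (c / (U * V) * V) := by
    funext z
    simp only [Matrix.vecMul, single_dotProduct]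
    by_cases hz : z = π (a', l)
    · subst hz; simp [hV]
    · rw [Pi.single_eq_of_ne hz, hmon.inv (a', l) z (fun e => hz (by rw [e]; simp)), mul_zero]
  rw [hf, ← hU, hπx, hπy, show (Pi.single ((a₁, j₁) : Fin m × Fin t) U : Fin m × Fin t → F) =
    U • Pi.single (a₁, j₁) 1 by rw [← Pi.single_smul', smul_eq_mul, mul_one],
    tv_smul_comm _ (el_ortho hxy _), ← Pi.single_smul', smul_eq_mul,
    show U * (c / (U * V) * V) = c by field_simp] at h
  rw [el]
  exact h

end Cfsg.Agent.MaxSub.Frame
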