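import Cfsg.Agent.MaxSub.Frame.Main
import Cfsg.Agent.MaxSub.Frame.Blocks

/-!
The stabiliser of a decomposition in standard block coordinates (helper74).
-/

set_option autoImplicit false

namespace Cfsg.Agent.MaxSub.Frame

open Matrix
open scoped MatrixGroups

variable {F : Type*} [Field F] {n t m : ℕ}

/-- Coordinates indexed by position and block. -/
def pairCoords : (Fin t → Fin m → F) ≃ₗ[F] (Fin m × Fin t → F) where
  toFun c x := c x.2 x.1
  invFun z i a := z (a, i)
  map_add' _ _ := rfl
  map_smul' _ _ := rfl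
  left_inv _ := rfl
  right_inv _ := rfl

variable (Ψ : (Fin n → F) ≃ₗ[F] (Fin m × Fin t → F))

/-- Change of coordinates. -/
noncomputable def chart : GL (Fin n) F ≃* GL (Fin m × Fin t) F :=
  (Matrix.GeneralLinearGroup.toLin.trans (LinearMap.GeneralLinearGroup.congrLinearEquiv Ψ)).trans
    Matrix.GeneralLinearGroup.toLin.symm

theorem chart_toLin (g : GL (Fin n) F) :
    Matrix.toLin' (chart Ψ g : Matrix (Fin m × Fin t) (Fin m × Fin t) F) =
      Ψ.toLinearMap ∘ₗ Matrix.toLin' (g : Matrix (Fin n) (Fin n) F) ∘ₗ Ψ.symm.toLinearMap := by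
  have h := congrArg Units.val (Matrix.GeneralLinearGroup.toLin.apply_symm_apply
    (LinearMap.GeneralLinearGroup.congrLinearEquiv Ψ (Matrix.GeneralLinearGroup.toLin g)))
  exact h

theorem chart_mulVec (g : GL (Fin n) F) (x : Fin n → F) :
    (chart Ψ g : Matrix (Fin m × Fin t) (Fin m × Fin t) F) *ᵥ Ψ x =
      Ψ ((g : Matrix (Fin n) (Fin n) F) *ᵥ x) := by
  rw [← Matrix.toLin'_apply, chart_toLin]
  simp

theorem det_chart (g : GL (Fin n) F) :
    Matrix.GeneralLinearGroup.det (chart Ψ g) = Matrix.GeneralLinearGroup.det g := by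
  refine Units.ext ?_
  rw [Matrix.GeneralLinearGroup.val_det_apply, Matrix.GeneralLinearGroup.val_det_apply,
    ← LinearMap.det_toLin', chart_toLin, LinearMap.det_conj, LinearMap.det_toLin']

variable {D : Fin t → Submodule F (Fin n → F)}

theorem map_mem_iff [NeZero m] (hD : Geo.IsMDecomposition m D)
    (hΨ : ∀ i x, x ∈ D i ↔ ∀ y : Fin m × Fin t, y.2 ≠ i → Ψ x y = 0) (g : GL (Fin n) F) :
    g ∈ Geo.decompositionStabilizer D ↔ BlockPerm (chart Ψ g) := by
  classical
  constructor
  · rintro ⟨σ, hσ⟩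
    refine ⟨σ, fun x y hxy => ?_⟩
    have hy : Ψ.symm (Pi.single y 1) ∈ D y.2 := (hΨ _ _).mpr fun z hz => by
      rw [Ψ.apply_symm_apply, Pi.single_eq_of_ne (fun e => hz (by rw [e]))]
    have h2 : Matrix.toLin' (g : Matrix (Fin n) (Fin n) F) (Ψ.symm (Pi.single y 1)) ∈ D (σ y.2) := by
      rw [← hσ y.2]; exact Submodule.mem_map_of_mem hy
    have h3 := (hΨ _ _).mp h2 x hxy
    rw [Matrix.toLin'_apply, ← chart_mulVec, Ψ.apply_symm_apply, mulVec_single_one] at h3
    exact h3
  · rintro ⟨σ, hσ⟩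
    have hsur : Function.Surjective σ := by
      intro k
      by_contra hno
      push Not at hno
      set G : GL (Fin m × Fin t) F := chart Ψ g
      have h1 := congrArg
        (fun A : Matrix (Fin m × Fin t) (Fin m × Fin t) F => A (0, k) (0, k))
        (Units.mul_inv G)
      simp only [one_apply_eq, Matrix.mul_apply] at h1
      rw [Finset.sum_eq_zero fun z _ => by rw [hσ (0, k) z (Ne.symm (hno z.2)), zero_mul]] at h1
      exact zero_ne_one h1
    refine ⟨Equiv.ofBijective σ (Finite.surjective_iff_bijective.mp hsur), fun i => ?_⟩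
    refine Submodule.eq_of_le_of_finrank_eq ?_ ?_
    · rintro - ⟨x, hx, rfl⟩
      refine (hΨ _ _).mpr fun y hy => ?_
      rw [Matrix.toLin'_apply, ← chart_mulVec]
      refine Finset.sum_eq_zero fun z _ => ?_
      show (chart Ψ g : Matrix (Fin m × Fin t) (Fin m × Fin t) F) y z * Ψ x z = 0
      by_cases hz : z.2 = i
      · rw [hσ y z (by rw [hz]; exact hy), zero_mul]
      · rw [(hΨ _ _).mp hx z hz, mul_zero]
    · rw [← (Submodule.equivMapOfInjective (Matrix.toLin' (g : Matrix (Fin n) (Fin n) F))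
        (fun a b h => MaxSub.mulVec_injective g (by simpa using h)) (D i)).finrank_eq, hD.finrank_eq,
        hD.finrank_eq]

end Cfsg.Agent.MaxSub.Frame
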