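import Cfsg.Agent.MaxSub.Frame.Homology

/-!
Subgroups of the special linear group containing the monomial group and no elementary transvection:
elements with an axis column, block diagonal elements, elements conjugating diagonal elements (helper74).
-/

set_option autoImplicit false

namespace Cfsg.Agent.MaxSub.Frame

open Matrix
open scoped MatrixGroups commutatorElement

variable {ι : Type} [Fintype ι] [DecidableEq ι] {F : Type*} [Field F]

theorem Mon.mul {g h : GL ι F} (hg : Mon g) (hh : Mon h) : Mon (g * h) := by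
  obtain ⟨σ, hσ⟩ := hg
  obtain ⟨τ, hτ⟩ := hh
  exact ⟨_, by rw [Units.val_mul]; exact hσ.mul hτ⟩

theorem Mon.exists_perm {g : GL ι F} (hg : Mon g) :
    ∃ σ : Equiv.Perm ι, MonAt σ (g : Matrix ι ι F) := by
  obtain ⟨σ, hσ⟩ := hg
  exact ⟨Equiv.ofBijective σ hσ.injective.bijective_of_finite, hσ⟩

theorem MonAt.inv {σ : Equiv.Perm ι} {g : GL ι F} (hg : MonAt σ (g : Matrix ι ι F)) :
    MonAt (σ⁻¹ : Equiv.Perm ι) ((g⁻¹ : GL ι F) : Matrix ι ι F) := by
  intro a b hab
  obtain ⟨j, rfl⟩ := σ.surjective b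
  have h := congrArg (((g⁻¹ : GL ι F) : Matrix ι ι F) *ᵥ ·) (hg.mulVec_single j)
  simp only [inv_mulVec_mulVec] at h
  rw [show (Pi.single (σ j) ((g : Matrix ι ι F) (σ j) j) : ι → F) =
      (g : Matrix ι ι F) (σ j) j • Pi.single (σ j) 1 by rw [← Pi.single_smul', smul_eq_mul, mul_one],
    mulVec_smul, mulVec_single_one] at h
  have h2 := congrFun h a
  simp only [Pi.smul_apply, Matrix.col_apply, smul_eq_mul] at h2
  simp only [Equiv.Perm.inv_def, σ.symm_apply_apply] at hab
  rw [Pi.single_eq_of_ne hab] at h2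
  exact (mul_eq_zero.mp h2.symm).resolve_left (hg.ne_zero j)

theorem Mon.inv {g : GL ι F} (hg : Mon g) : Mon g⁻¹ := by
  obtain ⟨σ, hσ⟩ := hg.exists_perm
  exact ⟨_, hσ.inv⟩

/-- The matrices with no entry in the rows of `p` and the columns off `p`. -/
def corner [Finite F] (p : ι → Prop) : Subgroup (GL ι F) :=
  let S : Submonoid (GL ι F) :=
    { carrier := {g | ∀ i j, p i → ¬ p j → (g : Matrix ι ι F) i j = 0}
      one_mem' := fun i j hi hj => by
        rw [Units.val_one]; exact one_apply_ne (fun e => hj (e ▸ hi))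
      mul_mem' := fun {a b} ha hb i j hi hj => by
        rw [Units.val_mul, Matrix.mul_apply]
        refine Finset.sum_eq_zero fun x _ => ?_
        by_cases hx : p x
        · rw [hb x j hx hj, mul_zero]
        · rw [ha i x hi hx, zero_mul] }
  { S with
    inv_mem' := fun {g} hg => by
      have h : g⁻¹ = g ^ (orderOf g - 1) := by
        refine inv_eq_of_mul_eq_one_right ?_
        rw [← pow_succ', Nat.sub_add_cancel (orderOf_pos g), pow_orderOf_eq_one]
      rw [h]
      exact pow_mem (show g ∈ S from hg) _ }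

theorem mem_corner [Finite F] {p : ι → Prop} {g : GL ι F} :
    g ∈ corner p ↔ ∀ i j, p i → ¬ p j → (g : Matrix ι ι F) i j = 0 := Iff.rfl

variable [Finite F]

/-- The diagonal block of `p`. -/
def inner (p : ι → Prop) [DecidablePred p] : corner (F := F) p →* GL {i // p i} F :=
  MonoidHom.toHomUnits
    { toFun := fun g => Matrix.of fun a b => (g.1 : Matrix ι ι F) a b
      map_one' := by ext a b; simp [Matrix.one_apply, Subtype.ext_iff]
      map_mul' := fun g h => by
        ext a b
        simp only [Matrix.of_apply, Subgroup.coe_mul, Units.val_mul, Matrix.mul_apply]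
        rw [← Fintype.sum_subtype_add_sum_subtype p, Finset.sum_eq_zero (s := (Finset.univ : Finset {i // ¬ p i}))
          (fun x _ => by rw [g.2 a x a.2 x.2, zero_mul]), add_zero] }

theorem inner_apply (p : ι → Prop) [DecidablePred p] (g : corner (F := F) p) (a b : {i // p i}) :
    (inner p g : Matrix {i // p i} {i // p i} F) a b = (g.1 : Matrix ι ι F) a b := rfl

/-- The diagonal block off `p`. -/
def outer (p : ι → Prop) [DecidablePred p] : corner (F := F) p →* GL {i // ¬ p i} F :=
  MonoidHom.toHomUnits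
    { toFun := fun g => Matrix.of fun a b => (g.1 : Matrix ι ι F) a b
      map_one' := by ext a b; simp [Matrix.one_apply, Subtype.ext_iff]
      map_mul' := fun g h => by
        ext a b
        simp only [Matrix.of_apply, Subgroup.coe_mul, Units.val_mul, Matrix.mul_apply]
        rw [← Fintype.sum_subtype_add_sum_subtype p, Finset.sum_eq_zero (s := (Finset.univ : Finset {i // p i}))
          (fun x _ => by rw [h.2 x b x.2 b.2, mul_zero]), zero_add] }

theorem outer_apply (p : ι → Prop) [DecidablePred p] (g : corner (F := F) p) (a b : {i // ¬ p i}) :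
    (outer p g : Matrix {i // ¬ p i} {i // ¬ p i} F) a b = (g.1 : Matrix ι ι F) a b := rfl

/-- A transvection in the block of a subgroup of the corner group with a non-monomial block. -/
theorem exists_lift (p : ι → Prop) [DecidablePred p] (hp3 : 3 ≤ Fintype.card {i // p i})
    (hout : ∃ i, ¬ p i) (hq : 5 ≤ Nat.card F) {S : Subgroup (GL ι F)} (hS : S ≤ corner p)
    (hmon : ∀ (σ : Equiv.Perm ι) (g : GL ι F), (∀ i, p (σ i) ↔ p i) → MonAt σ (g : Matrix ι ι F) →
      Matrix.GeneralLinearGroup.det g = 1 → g ∈ S)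
    {g : GL ι F} (hg : g ∈ S) (hgJ : ¬ Mon (inner p ⟨g, hS hg⟩)) :
    ∃ u ∈ S, ∃ i j : ι, ∃ c : F, p i ∧ p j ∧ i ≠ j ∧ c ≠ 0 ∧
      ∀ a b, (p b → p a) → (u : Matrix ι ι F) a b = transvection i j c a b := by
  set K := (S.subgroupOf (corner p)).map (inner p) with hK
  obtain ⟨o, ho⟩ := hout
  have hall : ∀ k : GL {i // p i} F, Mon k → k ∈ K := by
    intro k hk
    obtain ⟨τ, hτ⟩ := hk.exists_perm
    set σ : Equiv.Perm ι := Equiv.Perm.ofSubtype τ with hσ
    have hσp : ∀ i, p (σ i) ↔ p i := fun i => by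
      by_cases hi : p i
      · rw [hσ, Equiv.Perm.ofSubtype_apply_of_mem τ hi]
        exact iff_of_true (τ ⟨i, hi⟩).2 hi
      · simp [hσ, Equiv.Perm.ofSubtype_apply_of_not_mem _ hi, hi]
    set t0 : ι → Fˣ := fun i => if hi : p i then
      Units.mk0 ((k : Matrix {i // p i} {i // p i} F) (τ ⟨i, hi⟩) ⟨i, hi⟩) (hτ.ne_zero _) else 1 with ht0
    set d := Matrix.GeneralLinearGroup.det (pm σ * dg t0)
    set h := pm σ * dg t0 * dg (Function.update (1 : ι → Fˣ) o d⁻¹) with hh
    have hmonh : MonAt σ (h : Matrix ι ι F) := by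
      rw [hh, Units.val_mul, Units.val_mul]
      exact ((mon_pm σ).mul (mon_dg _)).mul (mon_dg _)
    have hdet : Matrix.GeneralLinearGroup.det h = 1 := by
      rw [hh, map_mul, det_dg, prod_update, mul_inv_cancel]
    have hhS := hmon σ h hσp hmonh hdet
    refine Subgroup.mem_map.mpr ⟨⟨h, hS hhS⟩, hhS, Units.ext ?_⟩
    ext a b
    rw [inner_apply]
    have hσb : σ b = τ b := Equiv.Perm.ofSubtype_apply_of_mem _ b.2
    by_cases hab : a = τ b
    · subst hab
      have hbo : (b : ι) ≠ o := fun e => ho (e ▸ b.2)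
      simp [hh, dg_coe, mul_diagonal, pm_apply, hσb, ht0, b.2, Function.update_of_ne hbo]
    · rw [hτ a b hab]
      exact hmonh a b fun e => hab (Subtype.ext (e.trans hσb))
  have hFull : Full K := ⟨fun k hk _ => hall k hk, fun t => hall _ ⟨id, mon_dg t⟩⟩
  have hAK : inner p ⟨g, hS hg⟩ ∈ K := Subgroup.mem_map.mpr ⟨_, hg, rfl⟩
  obtain ⟨i, j, c, hij, hc, hel⟩ := hFull.hasEl hp3 hq hAK hgJ
  obtain ⟨w, hw, hwe⟩ := Subgroup.mem_map.mp hel
  obtain ⟨s, hs2⟩ : ∃ s : Fˣ, (s : F) ^ 2 ≠ 1 := by
    classical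
    haveI := Fintype.ofFinite F
    obtain ⟨x, -, hx⟩ := Finset.exists_mem_notMem_of_card_lt_card (s := ({0, 1, -1} : Finset F))
      (t := Finset.univ) (Finset.card_le_three.trans_lt (by
        rw [Finset.card_univ, ← Nat.card_eq_fintype_card]; omega))
    simp only [Finset.mem_insert, Finset.mem_singleton, not_or] at hx
    refine ⟨Units.mk0 x hx.1, fun h => ?_⟩
    rcases mul_eq_zero.mp (show (x - 1) * (x + 1) = 0 by rw [Units.val_mk0] at h; linear_combination h) with h' | h'
    · exact hx.2.1 (sub_eq_zero.mp h')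
    · exact hx.2.2 (eq_neg_of_add_eq_zero_left h')
  have hijι : (i : ι) ≠ j := fun e => hij (Subtype.ext e)
  set t := pr (i : ι) j s with ht
  have htS : dg t ∈ S := hmon 1 _ (fun _ => Iff.rfl) (mon_dg t) (by rw [det_dg, prod_pr])
  set D : corner (F := F) p := ⟨dg t, hS htS⟩ with hD
  have houter : outer p D = 1 := Units.ext <| by
    ext a b
    rw [outer_apply, Units.val_one, hD, dg_coe]
    by_cases hab : a = b
    · subst hab
      rw [diagonal_apply_eq, one_apply_eq, ht,
        pr_other (fun e => a.2 (by rw [e]; exact i.2)) (fun e => a.2 (by rw [e]; exact j.2)), Units.val_one]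
    · rw [diagonal_apply_ne _ (fun e => hab (Subtype.ext e)), one_apply_ne hab]
  have hinner : inner p D = dg (fun a : {i // p i} => t a) := Units.ext <| by
    ext a b
    rw [inner_apply, hD, dg_coe, dg_coe]
    by_cases hab : a = b
    · subst hab; simp
    · rw [diagonal_apply_ne _ (fun e => hab (Subtype.ext e)), diagonal_apply_ne _ hab]
  set u : corner (F := F) p := D * w * D⁻¹ * w⁻¹ with hu
  have hout1 : outer p u = 1 := by simp [hu, houter]
  have hin : inner p u = el i j (c * ((s : F) ^ 2 - 1)) := by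
    have hv : (fun a : {i // p i} => ((t a : Fˣ) : F) * (Pi.single i 1 : {i // p i} → F) a) =
        (s : F) • Pi.single i 1 := funext fun a => by
      by_cases ha : a = i
      · subst ha; simp [ht, pr_left hijι]
      · simp [Pi.single_eq_of_ne ha]
    have hf : (fun a : {i // p i} => (Pi.single j c : {i // p i} → F) a * (((t a)⁻¹ : Fˣ) : F)) =
        Pi.single j (c * (s : F)) := funext fun a => by
      by_cases ha : a = j
      · subst ha; simp [ht, pr_right hijι]
      · simp [Pi.single_eq_of_ne ha]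
    rw [hu, map_mul, map_mul, map_mul, map_inv, map_inv, hwe, hinner]
    simp only [el]
    rw [tv_conj _ (el_ortho hij c), dg_mulVec, vecMul_dg_inv, hv, hf, tv_smul_comm _ (el_ortho hij _),
      tv_inv (el_ortho hij c), tv_mul_right (by simp [Pi.single_eq_of_ne hij]) (by simp [Pi.single_eq_of_ne hij]),
      ← Pi.single_smul', smul_eq_mul, ← Pi.single_neg, ← Pi.single_add]
    congr 2
    ring
  have huS : u.1 ∈ S := by
    rw [hu]
    simp only [Subgroup.coe_mul, Subgroup.coe_inv]
    exact mul_mem (mul_mem (mul_mem htS hw) (inv_mem htS)) (inv_mem hw)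
  refine ⟨u.1, huS, i, j, c * ((s : F) ^ 2 - 1), i.2, j.2, hijι, mul_ne_zero hc (sub_ne_zero.mpr hs2),
    fun a b hab => ?_⟩
  by_cases hb : p b
  · have := congrArg (fun m : GL {i // p i} F =>
      (m : Matrix {i // p i} {i // p i} F) ⟨a, hab hb⟩ ⟨b, hb⟩) hin
    rw [inner_apply, el_coe hij] at this
    rw [this]
    simp [transvection, Matrix.single, Matrix.one_apply, Subtype.ext_iff]
  · have hjb : (j : ι) ≠ b := fun e => hb (e ▸ j.2)
    by_cases ha : p a
    · rw [u.2 a b ha hb]
      simp [transvection, Matrix.single, hjb, one_apply_ne (show a ≠ b from fun e => hb (e ▸ ha))]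
    · have := congrArg (fun m : GL {i // ¬ p i} F =>
        (m : Matrix {i // ¬ p i} {i // ¬ p i} F) ⟨a, ha⟩ ⟨b, hb⟩) hout1
      rw [outer_apply] at this
      rw [this]
      simp [transvection, Matrix.single, hjb, Matrix.one_apply, Subtype.ext_iff]

/-- The hypotheses: monomial matrices of determinant one and no elementary transvection. -/
structure Setup (M : Subgroup (GL ι F)) : Prop where
  mon : HasMon M
  sl : M ≤ Geo.specialLinear ι F
  noel : ∀ (i j : ι) (c : F), i ≠ j → c ≠ 0 → el i j c ∉ M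
  card : 6 ≤ Fintype.card ι
  q : 5 ≤ Nat.card F

variable {M : Subgroup (GL ι F)}

theorem Setup.tv_axis_eq_zero (hM : Setup M) {e : ι} {ψ : ι → F}
    (hψ : ψ ∈ dualSet M (Pi.single e 1)) : ψ = 0 := by
  by_contra hne
  obtain ⟨i, j, c, hij, hc, h⟩ := hM.mon.el_of_centre (by have := hM.card; omega)
    (by have := hM.q; omega) hψ hne
  exact hM.noel i j c hij hc h

theorem Setup.mon_of_axis_fixed (hM : Setup M) {g : GL ι F} (hg : g ∈ M) {e : ι}
    (he : ∀ a, a ≠ e → (g : Matrix ι ι F) a e = 0) : Mon g := by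
  have hgc : g ∈ M ⊓ corner (· ≠ e) := ⟨hg, fun a b ha hb => by rw [not_not.mp hb]; exact he a ha⟩
  by_cases hJ : Mon (inner (· ≠ e) ⟨g, hgc.2⟩)
  · obtain ⟨τ, hτ⟩ := hJ
    set σ : ι → ι := fun b => if hb : b ≠ e then (τ ⟨b, hb⟩).1 else e with hσ
    obtain ⟨x, hx⟩ := col_ne_zero g e
    have hee : (g : Matrix ι ι F) e e ≠ 0 := by
      by_cases hxe : x = e
      · rwa [hxe] at hx
      · exact absurd (he x hxe) hx
    set w : ι → F := fun b => if b = e then 0 else -(g : Matrix ι ι F) e b / (g : Matrix ι ι F) e e with hw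
    have hwe : w ⬝ᵥ Pi.single e 1 = 0 := by simp [hw]
    have hm : MonAt σ ((g * tv (Pi.single e 1) w : GL ι F) : Matrix ι ι F) := by
      intro a b hab
      have hentry : ((g * tv (Pi.single e 1) w : GL ι F) : Matrix ι ι F) a b =
          (g : Matrix ι ι F) a b + (g : Matrix ι ι F) a e * w b := by
        rw [Units.val_mul, tv_coe hwe, mul_add, mul_one, mul_vecMulVec, Matrix.add_apply,
          vecMulVec_apply, mulVec_single_one, Matrix.col_apply]
      rw [hentry]
      by_cases hb : b = e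
      · subst hb
        simp only [hσ, ne_eq, not_true_eq_false, dite_false] at hab
        simp [hw, he a hab]
      · by_cases ha : a = e
        · subst ha; simp [hw, hb]; field_simp; ring
        · have : (⟨a, ha⟩ : {x // x ≠ e}) ≠ τ ⟨b, hb⟩ := fun h => hab (by
            simp [hσ, hb, ← h])
          have h0 := hτ _ _ this
          rw [inner_apply] at h0
          simp [show (g : Matrix ι ι F) a b = 0 from h0, he a ha]
    have hmM := hM.mon _ ⟨σ, hm⟩ (by rw [map_mul, hM.sl hg, det_tv, one_mul])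
    have htv : tv (Pi.single e 1) w ∈ M := by simpa using mul_mem (inv_mem hg) hmM
    rw [hM.tv_axis_eq_zero ⟨hwe, htv⟩, tv_zero_right, mul_one] at hm
    exact ⟨σ, hm⟩
  exfalso
  obtain ⟨u, hu, i, j, c, hi, hj, hij, hc, hent⟩ := exists_lift (· ≠ e)
    (by rw [Fintype.card_subtype_compl, Fintype.card_subtype_eq]; have := hM.card; omega) ⟨e, not_not.mpr rfl⟩ hM.q
    (S := M ⊓ corner (· ≠ e)) inf_le_right (fun σ h hσp hh hdet => ⟨hM.mon h ⟨σ, hh⟩ hdet, fun a b ha hb => by
      rw [not_not.mp hb]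
      refine hh a e fun h' => ?_
      exact ((hσp e).mp (by rw [← h']; exact ha)) rfl⟩) hgc hJ
  set v : ι → F := fun b => if b = e then 0 else (u : Matrix ι ι F) e b with hv
  have hve : v ⬝ᵥ Pi.single e 1 = 0 := by simp [hv]
  have hu' : u = el i j c * tv (Pi.single e 1) v := Units.ext <| by
    ext a b
    rw [Units.val_mul, tv_coe hve, el_coe hij, mul_add, mul_one, Matrix.add_apply, mul_vecMulVec,
      vecMulVec_apply, mulVec_single_one, Matrix.col_apply]
    by_cases hb : b ≠ e → a ≠ e
    · rw [hent a b hb]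
      by_cases hb' : b = e
      · simp [hv, hb']
      · simp [hv, transvection, Matrix.single, hj, hb hb']
    · simp only [ne_eq, Classical.not_imp, not_not] at hb
      obtain ⟨hb', rfl⟩ := hb
      simp [hv, transvection, Matrix.single, hb', hi, Ne.symm hb']
  obtain ⟨l, hl⟩ : ∃ l, l ∉ ({e, i, j} : Finset ι) := by
    by_contra hh
    push Not at hh
    have := (Finset.card_le_card (show (Finset.univ : Finset ι) ⊆ {e, i, j} from fun x _ => hh x)).trans
      Finset.card_le_three
    rw [Finset.card_univ] at this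
    have := hM.card
    omega
  simp only [Finset.mem_insert, Finset.mem_singleton, not_or] at hl
  obtain ⟨s, hs2⟩ : ∃ s : Fˣ, (s : F) ^ 2 ≠ 1 := by
    classical
    haveI := Fintype.ofFinite F
    obtain ⟨x, -, hx⟩ := Finset.exists_mem_notMem_of_card_lt_card (s := ({0, 1, -1} : Finset F))
      (t := Finset.univ) (Finset.card_le_three.trans_lt (by
        rw [Finset.card_univ, ← Nat.card_eq_fintype_card]; have := hM.q; omega))
    simp only [Finset.mem_insert, Finset.mem_singleton, not_or] at hx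
    refine ⟨Units.mk0 x hx.1, fun h => ?_⟩
    rcases mul_eq_zero.mp (show (x - 1) * (x + 1) = 0 by rw [Units.val_mk0] at h; linear_combination h) with h' | h'
    · exact hx.2.1 (sub_eq_zero.mp h')
    · exact hx.2.2 (eq_neg_of_add_eq_zero_left h')
  set t := pr e l s with ht
  have hconj : dg t * u * (dg t)⁻¹ =
      el i j c * tv (Pi.single e 1) ((s : F) • fun b => v b * (((t b)⁻¹ : Fˣ) : F)) := by
    rw [hu', show dg t * (el i j c * tv (Pi.single e 1) v) * (dg t)⁻¹ =
      (dg t * el i j c * (dg t)⁻¹) * (dg t * tv (Pi.single e 1) v * (dg t)⁻¹) by group]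
    simp only [el]
    rw [tv_conj _ (el_ortho hij c), tv_conj _ hve, dg_mulVec, dg_mulVec, vecMul_dg_inv, vecMul_dg_inv]
    rw [show (fun a => ((t a : Fˣ) : F) * (Pi.single i 1 : ι → F) a) = Pi.single i 1 from funext fun a => by
      by_cases ha : a = i
      · subst ha; simp [ht, pr_other hi (Ne.symm hl.2.1)]
      · simp [Pi.single_eq_of_ne ha]]
    rw [show (fun a => (Pi.single j c : ι → F) a * (((t a)⁻¹ : Fˣ) : F)) = Pi.single j c from funext fun a => by
      by_cases ha : a = j
      · subst ha; simp [ht, pr_other hj (Ne.symm hl.2.2)]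
      · simp [Pi.single_eq_of_ne ha]]
    rw [show (fun a => ((t a : Fˣ) : F) * (Pi.single e 1 : ι → F) a) = (s : F) • Pi.single e 1 from
      funext fun a => by
        by_cases ha : a = e
        · subst ha; simp [ht, pr_left (Ne.symm hl.1)]
        · simp [Pi.single_eq_of_ne ha]]
    rw [tv_smul_comm]
    simp [hv]
  set δ : ι → F := -v + (s : F) • fun b => v b * (((t b)⁻¹ : Fˣ) : F) with hδ
  have hδM : δ ∈ dualSet M (Pi.single e 1) := by
    refine ⟨by simp [hδ, hv], ?_⟩
    have h1 : u⁻¹ * (dg t * u * (dg t)⁻¹) ∈ M :=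
      mul_mem (inv_mem hu.1) (mul_mem (mul_mem (hM.mon.dg_mem (prod_pr e l s)) hu.1)
        (inv_mem (hM.mon.dg_mem (prod_pr e l s))))
    rwa [hconj, hu', _root_.mul_inv_rev, mul_assoc, inv_mul_cancel_left, tv_inv hve,
      tv_mul_right (by simp [hv]) (by simp [hv])] at h1
  have hv0 : v = 0 := funext fun b => by
    have h0 := congrFun (hM.tv_axis_eq_zero hδM) b
    simp only [hδ, Pi.add_apply, Pi.neg_apply, Pi.smul_apply, smul_eq_mul, Pi.zero_apply] at h0
    by_cases hbe : b = e
    · simp [hv, hbe]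
    by_cases hbl : b = l
    · subst hbl
      rw [ht, pr_right (Ne.symm hl.1), inv_inv] at h0
      exact (mul_eq_zero.mp (show v b * ((s : F) ^ 2 - 1) = 0 by linear_combination h0)).resolve_right
        (sub_ne_zero.mpr hs2)
    · rw [ht, pr_other hbe hbl, inv_one, Units.val_one, mul_one] at h0
      refine (mul_eq_zero.mp (show v b * ((s : F) - 1) = 0 by linear_combination h0)).resolve_right
        fun h => hs2 ?_
      rw [sub_eq_zero.mp h, one_pow]
  rw [hv0, tv_zero_right, mul_one] at hu'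
  exact hM.noel i j c hij hc (hu' ▸ hu.1)

/-- An element taking an axis to an axis is monomial. -/
theorem Setup.mon_of_axis (hM : Setup M) {g : GL ι F} (hg : g ∈ M) {k l : ι}
    (h : ∀ a, a ≠ l → (g : Matrix ι ι F) a k = 0) : Mon g := by
  obtain ⟨t, ht, -⟩ := hM.mon.exists_perm_mem (Equiv.swap l k) l
  set m := pm (Equiv.swap l k) * dg t with hm
  have hmm : MonAt (Equiv.swap l k) (m : Matrix ι ι F) := by
    intro a b hab
    rw [hm, Units.val_mul]
    exact ((mon_pm _).mul (mon_dg t)) a b hab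
  have h' : Mon (m * g) := hM.mon_of_axis_fixed (mul_mem ht hg) (e := k) fun a ha => by
    rw [Units.val_mul, Matrix.mul_apply]
    refine Finset.sum_eq_zero fun x _ => ?_
    by_cases hx : x = l
    · subst hx; rw [hmm a x (by rwa [Equiv.swap_apply_left]), zero_mul]
    · rw [h x hx, mul_zero]
  simpa using (Mon.inv (g := m) ⟨_, hmm⟩).mul h'

/-- A block diagonal element is monomial. -/
theorem Setup.mon_of_block (hM : Setup M) (p : ι → Prop) [DecidablePred p]
    (hp3 : 3 ≤ Fintype.card {i // p i}) (hout : ∃ i, ¬ p i) {g : GL ι F} (hg : g ∈ M)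
    (hblk : ∀ a b, ¬ (p a ↔ p b) → (g : Matrix ι ι F) a b = 0) : Mon g := by
  have hgc : g ∈ M ⊓ (corner p ⊓ corner fun i => ¬ p i) :=
    ⟨hg, fun a b ha hb => hblk a b (by tauto), fun a b ha hb => hblk a b (by tauto)⟩
  by_cases hJ : Mon (inner p ⟨g, hgc.2.1⟩)
  · obtain ⟨τ, hτ⟩ := hJ
    obtain ⟨⟨k, hk⟩⟩ := (Fintype.card_pos_iff (α := {i // p i})).mp (by omega)
    refine hM.mon_of_axis hg (k := k) (l := τ ⟨k, hk⟩) fun a ha => ?_
    by_cases hpa : p a
    · exact hτ ⟨a, hpa⟩ ⟨k, hk⟩ fun e => ha (congrArg Subtype.val e)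
    · exact hblk a k (by tauto)
  exfalso
  obtain ⟨u, hu, i, j, c, hi, hj, hij, hc, hent⟩ := exists_lift p hp3 hout hM.q
    (S := M ⊓ (corner p ⊓ corner fun i => ¬ p i)) (inf_le_right.trans inf_le_left)
    (fun σ h hσp hh hdet => ⟨hM.mon h ⟨σ, hh⟩ hdet,
      fun a b ha hb => hh a b fun e => hb ((hσp b).mp (by rwa [← e])),
      fun a b ha hb => hh a b fun e => ha (by rw [e]; exact (hσp b).mpr (not_not.mp hb))⟩) hgc hJ
  refine hM.noel i j c hij hc ((?_ : el i j c = u) ▸ hu.1)
  refine Units.ext ?_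
  rw [el_coe hij]
  ext a b
  by_cases hab : p b → p a
  · exact (hent a b hab).symm
  · simp only [Classical.not_imp] at hab
    rw [hu.2.2 a b hab.2 (not_not.mpr hab.1), transvection, Matrix.add_apply,
      one_apply_ne (show a ≠ b from fun e => hab.2 (e ▸ hab.1)), Matrix.single, Matrix.of_apply,
      if_neg (fun e => hab.2 (by rw [← e.1]; exact hi)), add_zero]

/-- An element carrying a non-scalar diagonal matrix to a diagonal matrix is monomial. -/
theorem Setup.mon_of_diag (hM : Setup M) {g : GL ι F} (hg : g ∈ M) {t t' : ι → F}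
    (ht : ∃ a b, t a ≠ t b)
    (h : ∀ a b, (g : Matrix ι ι F) a b ≠ 0 → t a = t' b) : Mon g := by
  classical
  obtain ⟨σ, hσ⟩ : ∃ σ : Equiv.Perm ι, ∀ b, (g : Matrix ι ι F) (σ b) b ≠ 0 := by
    by_contra hno
    push Not at hno
    have hdet : (g : Matrix ι ι F).det ≠ 0 := (Matrix.GeneralLinearGroup.det g).ne_zero
    rw [Matrix.det_apply] at hdet
    refine hdet (Finset.sum_eq_zero fun σ _ => ?_)
    obtain ⟨b, hb⟩ := hno σ
    have h0 : ∏ i, (g : Matrix ι ι F) (σ i) i = 0 := Finset.prod_eq_zero (Finset.mem_univ b) hb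
    simp [h0]
  obtain ⟨a₀, b₀, hab⟩ := ht
  obtain ⟨u, hu, -⟩ := hM.mon.exists_perm_mem σ a₀
  set m := pm σ * dg u with hm
  have hmm : MonAt σ (m : Matrix ι ι F) := by
    intro a b hab
    rw [hm, Units.val_mul]
    exact ((mon_pm _).mul (mon_dg u)) a b hab
  have hblk : ∀ a b, ((m⁻¹ * g : GL ι F) : Matrix ι ι F) a b ≠ 0 → t' a = t' b := by
    intro a b hne
    rw [Units.val_mul, Matrix.mul_apply, Finset.sum_eq_single (σ a) (fun x _ hx => by
      rw [hmm.inv a x (fun e => hx (by rw [e]; simp)), zero_mul]) (fun h => absurd (Finset.mem_univ _) h)] at hne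
    rw [← h _ _ (hσ a)]
    exact h _ _ (right_ne_zero_of_mul hne)
  have htσ : ∀ b, t (σ b) = t' b := fun b => h _ _ (hσ b)
  set v := t' (σ⁻¹ a₀) with hv
  have hout1 : ∃ i, ¬ t' i = v := ⟨σ⁻¹ b₀, fun e => hab (by
    have := (htσ (σ⁻¹ a₀)).trans (e.symm.trans (htσ (σ⁻¹ b₀)).symm)
    simpa using this)⟩
  have hfin : Mon (m⁻¹ * g) := by
    by_cases h3 : 3 ≤ Fintype.card {i // t' i = v}
    · exact hM.mon_of_block (fun i => t' i = v) h3 hout1 (mul_mem (inv_mem hu) hg) fun a b hne => by
        by_contra h0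
        exact hne (by rw [hblk a b h0])
    · refine hM.mon_of_block (fun i => ¬ t' i = v) ?_ ⟨σ⁻¹ a₀, not_not.mpr rfl⟩ (mul_mem (inv_mem hu) hg)
        fun a b hne => ?_
      · rw [Fintype.card_subtype_compl]; have := hM.card; omega
      · by_contra h0
        exact hne (by rw [hblk a b h0])
  simpa using (show Mon m from ⟨σ, hmm⟩).mul hfin

end Cfsg.Agent.MaxSub.Frame
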