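import Cfsg.Agent.MaxSub.Basic

/-!
Monomial matrices, elementary transvections and subgroups containing the determinant one monomial group (helper74).
-/

set_option autoImplicit false

namespace Cfsg.Agent.MaxSub.Frame

open Matrix
open scoped MatrixGroups

variable {ι : Type} [Fintype ι] [DecidableEq ι] {F : Type*} [Field F]

/-- Each column has at most one non-zero entry, in the row given by `σ`. -/
def MonAt (σ : ι → ι) (g : Matrix ι ι F) : Prop := ∀ i j, i ≠ σ j → g i j = 0

/-- Monomial matrices. -/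
def Mon (g : GL ι F) : Prop := ∃ σ : ι → ι, MonAt σ (g : Matrix ι ι F)

theorem MonAt.mulVec_single {σ : ι → ι} {g : Matrix ι ι F} (h : MonAt σ g) (j : ι) :
    g *ᵥ Pi.single j 1 = Pi.single (σ j) (g (σ j) j) := by
  funext i
  rw [mulVec_single_one]
  by_cases hi : i = σ j
  · subst hi; simp [Matrix.col]
  · simp [Matrix.col, Pi.single_eq_of_ne hi, h i j hi]

theorem MonAt.mul {σ τ : ι → ι} {g k : Matrix ι ι F} (hg : MonAt σ g) (hk : MonAt τ k) :
    MonAt (σ ∘ τ) (g * k) := by
  intro i j hij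
  rw [Matrix.mul_apply]
  refine Finset.sum_eq_zero fun l _ => ?_
  by_cases hl : l = τ j
  · subst hl; rw [hg i (τ j) hij, zero_mul]
  · rw [hk l j hl, mul_zero]

theorem MonAt.pow {σ : ι → ι} {g : Matrix ι ι F} (hg : MonAt σ g) (e : ℕ) : MonAt (σ^[e]) (g ^ e) := by
  induction e with
  | zero =>
    intro i j hij
    rw [pow_zero]
    exact one_apply_ne hij
  | succ e ih =>
    rw [pow_succ', Function.iterate_succ']
    exact hg.mul ih

theorem col_ne_zero (g : GL ι F) (j : ι) : ∃ i, (g : Matrix ι ι F) i j ≠ 0 := by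
  have h := mulVec_ne_zero g (show (Pi.single j 1 : ι → F) ≠ 0 by simp)
  obtain ⟨i, hi⟩ := Function.ne_iff.mp h
  exact ⟨i, by simpa [mulVec_single_one, Matrix.col] using hi⟩

theorem MonAt.ne_zero {σ : ι → ι} {g : GL ι F} (h : MonAt σ (g : Matrix ι ι F)) (j : ι) :
    (g : Matrix ι ι F) (σ j) j ≠ 0 := by
  obtain ⟨i, hi⟩ := col_ne_zero g j
  by_cases hij : i = σ j
  · rwa [← hij]
  · exact absurd (h i j hij) hi

theorem MonAt.injective {σ : ι → ι} {g : GL ι F} (h : MonAt σ (g : Matrix ι ι F)) :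
    Function.Injective σ := by
  intro j k hjk
  by_contra hne
  set x : ι → F := (g : Matrix ι ι F) (σ k) k • Pi.single j 1 - (g : Matrix ι ι F) (σ j) j • Pi.single k 1
    with hx
  have h0 : (g : Matrix ι ι F) *ᵥ x = 0 := by
    rw [hx, mulVec_sub, mulVec_smul, mulVec_smul, h.mulVec_single, h.mulVec_single, hjk]
    funext i
    by_cases hi : i = σ k
    · subst hi; simp [mul_comm]
    · simp [Pi.single_eq_of_ne hi]
  have := congrFun (mulVec_injective g (h0.trans (mulVec_zero _).symm)) j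
  simp [hx, Pi.single_eq_of_ne hne] at this
  exact h.ne_zero k this

theorem exists_two_of_not_mon {g : GL ι F} (h : ¬ Mon g) :
    ∃ j i i', i ≠ i' ∧ (g : Matrix ι ι F) i j ≠ 0 ∧ (g : Matrix ι ι F) i' j ≠ 0 := by
  by_contra hc
  simp only [not_exists, not_and, not_not] at hc
  choose σ hσ using col_ne_zero g
  exact h ⟨σ, fun i j hij => hc j (σ j) i (Ne.symm hij) (hσ j)⟩

/-- The diagonal matrix with entries `t`. -/
def dg (t : ι → Fˣ) : GL ι F :=
  ⟨diagonal fun i => (t i : F), diagonal fun i => ((t i)⁻¹ : Fˣ),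
    by rw [diagonal_mul_diagonal]; simp, by rw [diagonal_mul_diagonal]; simp⟩

theorem dg_coe (t : ι → Fˣ) : (dg t : Matrix ι ι F) = diagonal fun i => (t i : F) := rfl

theorem dg_inv_coe (t : ι → Fˣ) : ((dg t)⁻¹ : GL ι F).1 = diagonal fun i => (((t i)⁻¹ : Fˣ) : F) := rfl

theorem dg_mulVec (t : ι → Fˣ) (x : ι → F) : (dg t : Matrix ι ι F) *ᵥ x = fun i => (t i : F) * x i := by
  funext i; rw [dg_coe, mulVec_diagonal]

theorem vecMul_dg_inv (t : ι → Fˣ) (x : ι → F) :
    x ᵥ* (((dg t)⁻¹ : GL ι F) : Matrix ι ι F) = fun i => x i * (((t i)⁻¹ : Fˣ) : F) := by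
  funext i
  show (x ᵥ* ((dg t)⁻¹ : GL ι F).1) i = _
  rw [dg_inv_coe, vecMul_diagonal]

theorem det_dg (t : ι → Fˣ) : Matrix.GeneralLinearGroup.det (dg t) = ∏ i, t i := by
  refine Units.ext ?_
  rw [Matrix.GeneralLinearGroup.val_det_apply, dg_coe, det_diagonal, Units.coe_prod]

theorem mon_dg (t : ι → Fˣ) : MonAt id (dg t : Matrix ι ι F) := fun i j hij => by
  rw [dg_coe]; exact diagonal_apply_ne _ hij

/-- The permutation matrix taking `e_j` to `e_(σ j)`. -/
def pm (σ : Equiv.Perm ι) : GL ι F :=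
  ⟨σ⁻¹.permMatrix F, σ.permMatrix F,
    by rw [← Matrix.permMatrix_mul]; simp, by rw [← Matrix.permMatrix_mul]; simp⟩

theorem pm_apply (σ : Equiv.Perm ι) (i j : ι) :
    (pm σ : GL ι F).1 i j = if i = σ j then 1 else 0 := by
  show (σ⁻¹.permMatrix F) i j = _
  simp only [Equiv.Perm.permMatrix, Equiv.toPEquiv, PEquiv.toMatrix_apply]
  by_cases h : i = σ j
  · subst h; simp
  · rw [if_neg h, if_neg]
    simp only [Option.mem_def, Option.some.injEq]
    intro h'
    have h'' : σ⁻¹ i = j := Option.some.inj h'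
    exact h (by rw [← h'']; simp)

theorem mon_pm (σ : Equiv.Perm ι) : MonAt σ (pm σ : GL ι F).1 := fun i j hij => by
  rw [pm_apply, if_neg hij]

/-- `M` contains every monomial matrix of determinant one. -/
def HasMon (M : Subgroup (GL ι F)) : Prop :=
  ∀ g : GL ι F, Mon g → Matrix.GeneralLinearGroup.det g = 1 → g ∈ M

variable {M : Subgroup (GL ι F)}

theorem HasMon.dg_mem (hM : HasMon M) {t : ι → Fˣ} (ht : ∏ i, t i = 1) : dg t ∈ M :=
  hM _ ⟨id, mon_dg t⟩ (by rw [det_dg, ht])

theorem prod_update (a : ι) (s : Fˣ) : ∏ i, Function.update (1 : ι → Fˣ) a s i = s := by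
  rw [Finset.prod_update_of_mem (Finset.mem_univ a)]; simp

/-- The diagonal matrix with `s` at `a` and `s⁻¹` at `b`. -/
def pr (a b : ι) (s : Fˣ) : ι → Fˣ :=
  Function.update (1 : ι → Fˣ) a s * Function.update (1 : ι → Fˣ) b s⁻¹

theorem prod_pr (a b : ι) (s : Fˣ) : ∏ i, pr a b s i = 1 := by
  simp only [pr, Pi.mul_apply, Finset.prod_mul_distrib, prod_update, mul_inv_cancel]

theorem pr_left {a b : ι} (h : a ≠ b) (s : Fˣ) : pr a b s a = s := by simp [pr, Function.update_of_ne h]
theorem pr_right {a b : ι} (h : a ≠ b) (s : Fˣ) : pr a b s b = s⁻¹ := by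
  simp [pr, Function.update_of_ne h.symm]
theorem pr_other {a b i : ι} (h : i ≠ a) (h' : i ≠ b) (s : Fˣ) : pr a b s i = 1 := by
  simp [pr, Function.update_of_ne h, Function.update_of_ne h']

/-- A diagonal correction makes any permutation matrix have determinant one. -/
theorem HasMon.exists_perm_mem (hM : HasMon M) (σ : Equiv.Perm ι) (i₀ : ι) :
    ∃ t : ι → Fˣ, pm σ * dg t ∈ M ∧ ∀ j, j ≠ i₀ → t j = 1 := by
  refine ⟨Function.update 1 i₀ (Matrix.GeneralLinearGroup.det (pm σ : GL ι F))⁻¹,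
    hM _ ⟨_, (mon_pm σ).mul (mon_dg _)⟩ ?_, fun j hj => Function.update_of_ne hj _ _⟩
  rw [map_mul, det_dg, prod_update, mul_inv_cancel]

/-- The elementary transvection `1 + c E_ij`. -/
noncomputable def el (i j : ι) (c : F) : GL ι F := tv (Pi.single i 1) (Pi.single j c)

theorem el_ortho {i j : ι} (h : i ≠ j) (c : F) : Pi.single j c ⬝ᵥ (Pi.single i 1 : ι → F) = 0 := by
  simp [Pi.single_eq_of_ne h]

theorem el_coe {i j : ι} (h : i ≠ j) (c : F) : (el i j c : Matrix ι ι F) = transvection i j c := by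
  rw [el, tv_coe (el_ortho h c)]
  ext a b
  simp [transvection, vecMulVec, Matrix.single, Matrix.one_apply, Pi.single_apply]
  grind

theorem specialLinear_le_of_el_mem (h : ∀ i j : ι, i ≠ j → ∀ c : F, el i j c ∈ M) :
    Geo.specialLinear ι F ≤ M := by
  intro g hg
  have hdet : (g : Matrix ι ι F).det = 1 := by
    have := congrArg Units.val (show Matrix.GeneralLinearGroup.det g = 1 from hg)
    simpa using this
  have htop : M.comap (Matrix.SpecialLinearGroup.toGL (n := ι) (R := F)) = ⊤ := by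
    refine LinearGroup.eq_top_of_transvection_mem fun i j hij c => ?_
    rw [Subgroup.mem_comap]
    convert h i j hij c using 1
    refine Units.ext ?_
    rw [el_coe hij]
    simp only [Matrix.SpecialLinearGroup.toGL, MonoidHom.coe_mk, OneHom.coe_mk]
    exact Matrix.SpecialLinearGroup.transvection_coe hij c
  let A : Matrix.SpecialLinearGroup ι F := ⟨(g : Matrix ι ι F), hdet⟩
  have hm : A ∈ M.comap (Matrix.SpecialLinearGroup.toGL (n := ι) (R := F)) :=
    htop ▸ Subgroup.mem_top _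
  rw [Subgroup.mem_comap] at hm
  exact (show Matrix.SpecialLinearGroup.toGL A = g from Units.ext rfl) ▸ hm

/-- One non-trivial elementary transvection gives all. -/
theorem HasMon.el_all (hM : HasMon M) (h3 : 3 ≤ Fintype.card ι) {i j : ι} (hij : i ≠ j) {c : F} (hc : c ≠ 0)
    (hmem : el i j c ∈ M) : ∀ i' j' : ι, i' ≠ j' → ∀ c' : F, el i' j' c' ∈ M := by
  intro i' j' hij' c'
  by_cases hc' : c' = 0
  · subst hc'; simp [el]
  -- a permutation taking `i`, `j` to `i'`, `j'`
  set σ : Equiv.Perm ι := Equiv.swap (Equiv.swap i i' j) j' * Equiv.swap i i' with hσ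
  have hne : i' ≠ Equiv.swap i i' j := fun h => hij ((Equiv.swap i i').injective (by rw [Equiv.swap_apply_left]; exact h))
  have hσi : σ i = i' := by
    rw [hσ, Equiv.Perm.mul_apply, Equiv.swap_apply_left, Equiv.swap_apply_of_ne_of_ne hne hij']
  have hσj : σ j = j' := by rw [hσ, Equiv.Perm.mul_apply, Equiv.swap_apply_left]
  obtain ⟨l, hl⟩ : ∃ l, l ∉ ({i, j} : Finset ι) := by
    by_contra hh
    push Not at hh
    have := (Finset.card_le_card (show (Finset.univ : Finset ι) ⊆ {i, j} from fun x _ => hh x)).trans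
      Finset.card_le_two
    rw [Finset.card_univ] at this
    omega
  simp only [Finset.mem_insert, Finset.mem_singleton, not_or] at hl
  obtain ⟨u, hu, hu1⟩ := hM.exists_perm_mem σ l
  set s : Fˣ := Units.mk0 (c' / c) (div_ne_zero hc' hc) with hs
  have hd := hM.dg_mem (prod_pr i l s)
  have hg : pm σ * dg u * dg (pr i l s) ∈ M := mul_mem hu hd
  have hconj := mul_mem (mul_mem hg hmem) (inv_mem hg)
  convert hconj using 1
  refine eq_mul_inv_iff_mul_eq.mpr (Units.ext ?_)
  have hr : ∀ (a b : ι), (pm σ * dg u * dg (pr i l s) : GL ι F).1 a b =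
      if a = σ b then ((u b : F) * (pr i l s b : Fˣ)) else 0 := fun a b => by
    rw [Units.val_mul, Units.val_mul, dg_coe, dg_coe, mul_diagonal, mul_diagonal, pm_apply]
    split_ifs <;> simp
  ext a b
  rw [Units.val_mul (el i' j' c'), Units.val_mul _ (el i j c), el_coe hij', el_coe hij, Matrix.mul_apply,
    Matrix.mul_apply]
  simp only [hr, transvection, Matrix.add_apply, Matrix.one_apply, Matrix.single, Matrix.of_apply]
  have hsum1 : ∀ f : ι → F, ∑ x, f x * (if x = σ b then ((u b : F) * (pr i l s b : Fˣ)) else 0) =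
      f (σ b) * ((u b : F) * (pr i l s b : Fˣ)) := fun f => by simp
  have hsum2 : ∀ f : ι → F, ∑ x, (if a = σ x then ((u x : F) * (pr i l s x : Fˣ)) else 0) * f x =
      ((u (σ.symm a) : F) * (pr i l s (σ.symm a) : Fˣ)) * f (σ.symm a) := fun f => by
    rw [Finset.sum_eq_single (σ.symm a)]
    · simp
    · intro x _ hx
      rw [if_neg (fun e => hx (by rw [e]; simp)), zero_mul]
    · simp
  rw [hsum1, hsum2]
  obtain ⟨a, rfl⟩ := σ.surjective a
  rw [σ.symm_apply_apply]
  simp only [σ.injective.eq_iff, ← hσi, ← hσj]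
  by_cases hab : a = b
  · subst hab
    have hno : ¬ (i = a ∧ j = a) := fun h => hij (h.1.trans h.2.symm)
    simp [hno]
  by_cases hia : i = a ∧ j = b
  · obtain ⟨rfl, rfl⟩ := hia
    simp [hab, hu1 _ (Ne.symm hl.1), hu1 _ (Ne.symm hl.2), pr_left (Ne.symm hl.1),
      pr_other hij.symm (Ne.symm hl.2), hs]
    field_simp
  · simp [hab, hia]

/-- An axis centre with any non-zero functional gives an elementary transvection. -/
theorem HasMon.el_of_centre (hM : HasMon M) (h4 : 4 ≤ Fintype.card ι) (hq : 3 ≤ Nat.card F) [Finite F]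
    {e : ι} {ψ : ι → F} (hψ : ψ ∈ dualSet M (Pi.single e 1)) (hne : ψ ≠ 0) :
    ∃ i j : ι, ∃ c : F, i ≠ j ∧ c ≠ 0 ∧ el i j c ∈ M := by
  have he : ψ e = 0 := by simpa using hψ.1
  obtain ⟨s, hs⟩ : ∃ s : Fˣ, s ≠ 1 := by
    by_contra hh
    push Not at hh
    haveI : Subsingleton Fˣ := ⟨fun a b => (hh a).trans (hh b).symm⟩
    have := Nat.card_units F
    rw [Nat.card_of_subsingleton (1 : Fˣ)] at this
    omega
  have hs1 : ((s⁻¹ : Fˣ) : F) - 1 ≠ 0 := fun h => hs (inv_eq_one.mp (Units.ext (sub_eq_zero.mp h)))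
  -- the difference for the pair `k`, `l`
  have hdiff : ∀ (χ : ι → F), χ ∈ dualSet M (Pi.single e 1) → ∀ k l, k ≠ e → l ≠ e → k ≠ l →
      ∃ χ' ∈ dualSet M (Pi.single e 1), χ' k = (((s⁻¹ : Fˣ) : F) - 1) * χ k ∧
        χ' l = ((s : F) - 1) * χ l ∧ ∀ m, m ≠ k → m ≠ l → χ' m = 0 := by
    intro χ hχ k l hk hl hkl
    have h := conj_mem_dualSet (hM.dg_mem (prod_pr k l s)) hχ
    rw [show ((dg (pr k l s) : GL ι F) : Matrix ι ι F) *ᵥ Pi.single e 1 = Pi.single e 1 by
      rw [dg_mulVec]; funext m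
      by_cases hm : m = e
      · subst hm; simp [pr_other (Ne.symm hk) (Ne.symm hl)]
      · simp [Pi.single_eq_of_ne hm], vecMul_dg_inv] at h
    refine ⟨_, sub_mem h hχ, ?_, ?_, fun m hmk hml => ?_⟩
    · simp only [Pi.sub_apply, pr_left hkl]; ring
    · simp only [Pi.sub_apply, pr_right hkl, inv_inv]; ring
    · simp [pr_other hmk hml]
  have single : ∀ (χ : ι → F), χ ∈ dualSet M (Pi.single e 1) → ∀ k l, χ k ≠ 0 → χ l = 0 → l ≠ e →
      ∃ i j : ι, ∃ c : F, i ≠ j ∧ c ≠ 0 ∧ el i j c ∈ M := by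
    intro χ hχ k l hk hl hle
    have hke : k ≠ e := fun h => hk (h ▸ by simpa using hχ.1)
    obtain ⟨χ', hχ', h1, h2, h3⟩ := hdiff χ hχ k l hke hle (fun h => hk (h ▸ hl))
    refine ⟨e, k, χ' k, hke.symm, by rw [h1]; exact mul_ne_zero hs1 hk, ?_⟩
    have : χ' = Pi.single k (χ' k) := by
      funext m
      by_cases hm : m = k
      · subst hm; simp
      · rw [Pi.single_eq_of_ne hm]
        by_cases hml : m = l
        · subst hml; rw [h2, hl, mul_zero]
        · exact h3 m hm hml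
    rw [el, ← this]
    exact hχ'.2
  obtain ⟨k, hk⟩ := Function.ne_iff.mp hne
  by_cases hz : ∃ l, l ≠ e ∧ ψ l = 0
  · obtain ⟨l, hle, hl⟩ := hz
    exact single ψ hψ k l hk hl hle
  push Not at hz
  have hke : k ≠ e := fun h => hk (h ▸ he)
  obtain ⟨l, hl⟩ : ∃ l, l ∉ ({e, k} : Finset ι) := by
    by_contra hh
    push Not at hh
    have := (Finset.card_le_card (show (Finset.univ : Finset ι) ⊆ {e, k} from fun x _ => hh x)).trans
      Finset.card_le_two
    rw [Finset.card_univ] at this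
    omega
  obtain ⟨l', hl'⟩ : ∃ l', l' ∉ ({e, k, l} : Finset ι) := by
    by_contra hh
    push Not at hh
    have := (Finset.card_le_card (show (Finset.univ : Finset ι) ⊆ {e, k, l} from fun x _ => hh x)).trans
      Finset.card_le_three
    rw [Finset.card_univ] at this
    omega
  simp only [Finset.mem_insert, Finset.mem_singleton, not_or] at hl hl'
  obtain ⟨χ', hχ', h1, -, h3⟩ := hdiff ψ hψ k l hke hl.1 (Ne.symm hl.2)
  exact single χ' hχ' k l' (by rw [h1]; exact mul_ne_zero hs1 (hz k hke)) (h3 l' hl'.2.1 hl'.2.2) hl'.1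

end Cfsg.Agent.MaxSub.Frame
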