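import Cfsg.Agent.MaxSub.Frame.Basic

/-!
A subgroup of `GL(ι, F)` containing all monomial matrices and one further element contains the
elementary transvections, `|F| ≥ 5` (helper74).
-/

set_option autoImplicit false

namespace Cfsg.Agent.MaxSub.Frame

open Matrix
open scoped MatrixGroups

variable {ι : Type} [Fintype ι] [DecidableEq ι] {F : Type*} [Field F]

/-- The subgroup contains all monomial matrices. -/
structure Full (K : Subgroup (GL ι F)) : Prop where
  mon : HasMon K
  diag : ∀ t : ι → Fˣ, dg t ∈ K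

/-- A non-trivial elementary transvection of `K`. -/
def HasEl (K : Subgroup (GL ι F)) : Prop := ∃ i j : ι, ∃ c : F, i ≠ j ∧ c ≠ 0 ∧ el i j c ∈ K

/-- All the homologies with centre `a` and axis `α`. -/
def Hom (K : Subgroup (GL ι F)) (a α : ι → F) : Prop :=
  α ⬝ᵥ a = 1 ∧ ∀ ξ : F, 1 + ξ ≠ 0 → ∃ X ∈ K, ∀ x, (X : Matrix ι ι F) *ᵥ x = x + (ξ * (α ⬝ᵥ x)) • a

variable {K : Subgroup (GL ι F)}

theorem Hom.conj {a α : ι → F} (h : Hom K a α) {g : GL ι F} (hg : g ∈ K) :
    Hom K ((g : Matrix ι ι F) *ᵥ a) (α ᵥ* ((g⁻¹ : GL ι F) : Matrix ι ι F)) := by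
  refine ⟨by rw [vecMul_inv_dotProduct, h.1], fun ξ hξ => ?_⟩
  obtain ⟨X, hX, hx⟩ := h.2 ξ hξ
  refine ⟨g * X * g⁻¹, mul_mem (mul_mem hg hX) (inv_mem hg), fun x => ?_⟩
  rw [Units.val_mul, Units.val_mul, ← mulVec_mulVec, ← mulVec_mulVec, hx, mulVec_add, mulVec_inv_mulVec,
    mulVec_smul, ← dotProduct_mulVec]

theorem Full.hom_axis (hK : Full K) (k : ι) : Hom K (Pi.single k 1) (Pi.single k 1) := by
  refine ⟨by simp, fun ξ hξ => ⟨dg (Function.update (1 : ι → Fˣ) k (Units.mk0 _ hξ)), hK.diag _, fun x => ?_⟩⟩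
  rw [dg_mulVec]
  funext i
  by_cases hi : i = k
  · subst hi; simp; ring
  · simp [Function.update_of_ne hi, Pi.single_eq_of_ne hi]

theorem exists_scalar_ne_one (hq : 3 ≤ Nat.card F) [Finite F] : ∃ s : Fˣ, s ≠ 1 := by
  by_contra hh
  push Not at hh
  haveI : Subsingleton Fˣ := ⟨fun a b => (hh a).trans (hh b).symm⟩
  have := Nat.card_units F
  rw [Nat.card_of_subsingleton (1 : Fˣ)] at this
  omega

variable [Finite F]

theorem Full.el_of_centre (hK : Full K) (hq : 3 ≤ Nat.card F) {e : ι} {ψ : ι → F}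
    (hψ : ψ ∈ dualSet K (Pi.single e 1)) (hne : ψ ≠ 0) : HasEl K := by
  obtain ⟨k, hk⟩ := Function.ne_iff.mp hne
  have he : ψ e = 0 := by simpa using hψ.1
  have hke : k ≠ e := fun h => hk (h ▸ he)
  obtain ⟨s, hs⟩ := exists_scalar_ne_one (F := F) hq
  have hs1 : ((s⁻¹ : Fˣ) : F) - 1 ≠ 0 := fun h => hs (inv_eq_one.mp (Units.ext (sub_eq_zero.mp h)))
  have h := conj_mem_dualSet (hK.diag (Function.update (1 : ι → Fˣ) k s)) hψ
  rw [show ((dg (Function.update (1 : ι → Fˣ) k s) : GL ι F) : Matrix ι ι F) *ᵥ Pi.single e 1 =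
      Pi.single e 1 by
    rw [dg_mulVec]; funext m
    by_cases hm : m = e
    · subst hm; simp [Function.update_of_ne hke.symm]
    · simp [Pi.single_eq_of_ne hm], vecMul_dg_inv] at h
  have h2 := (sub_mem h hψ).2
  refine ⟨e, k, ψ k * (((s⁻¹ : Fˣ) : F) - 1), hke.symm, mul_ne_zero hk hs1, ?_⟩
  rw [el]
  convert h2 using 2
  funext m
  by_cases hm : m = k
  · subst hm; simp; ring
  · simp [Function.update_of_ne hm, Pi.single_eq_of_ne hm]

theorem Full.el_of_axis (hK : Full K) (hq : 3 ≤ Nat.card F) {m : ι} {w : ι → F} {c : F}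
    (hw : Pi.single m c ∈ dualSet K w) (hc : c ≠ 0) (hne : w ≠ 0) : HasEl K := by
  have h0 : w m = 0 := by simpa [hc] using hw.1
  obtain ⟨p, hp⟩ := Function.ne_iff.mp hne
  have hpm : p ≠ m := fun h => hp (h ▸ h0)
  obtain ⟨s, hs⟩ := exists_scalar_ne_one (F := F) hq
  have hs1 : (s : F) - 1 ≠ 0 := fun h => hs (Units.ext (sub_eq_zero.mp h))
  have h := conj_mem_dualSet (hK.diag (Function.update (1 : ι → Fˣ) p s)) hw
  rw [dg_mulVec, vecMul_dg_inv,
    show (fun i => (Pi.single m c : ι → F) i * (((Function.update (1 : ι → Fˣ) p s i)⁻¹ : Fˣ) : F)) =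
      Pi.single m c from funext fun i => by
        by_cases hi : i = m
        · subst hi; simp [Function.update_of_ne hpm.symm]
        · simp [Pi.single_eq_of_ne hi], ← mem_centreSet] at h
  have h2 := sub_mem h (mem_centreSet.mpr hw)
  rw [show (fun i => ((Function.update (1 : ι → Fˣ) p s i : Fˣ) : F) * w i) - w =
      (((s : F) - 1) * w p) • Pi.single p 1 from funext fun i => by
        by_cases hi : i = p
        · subst hi; simp; ring
        · simp [Function.update_of_ne hi, Pi.single_eq_of_ne hi]] at h2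
  refine ⟨p, m, ((s : F) - 1) * w p * c, hpm, mul_ne_zero (mul_ne_zero hs1 hp) hc, ?_⟩
  have h3 := h2.2
  rw [tv_smul_comm _ (el_ortho hpm c), ← Pi.single_smul', smul_eq_mul] at h3
  exact h3

/-- Two homologies with the same axis. -/
theorem tv_of_two_centres {a a' α : ι → F} {ξ : F} (hξ : 1 + ξ ≠ 0) (h : Hom K a α) (h' : Hom K a' α) :
    tv ((ξ / (1 + ξ)) • (a' - a)) α ∈ K := by
  have hd : α ⬝ᵥ ((ξ / (1 + ξ)) • (a' - a)) = 0 := by
    rw [dotProduct_smul, dotProduct_sub, h.1, h'.1, sub_self, smul_zero]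
  have hξ' : (1 : F) + -ξ / (1 + ξ) ≠ 0 := by
    rw [add_div' _ _ _ hξ]; simp [hξ]
  obtain ⟨X, hX, hx⟩ := h'.2 ξ hξ
  obtain ⟨Y, hY, hy⟩ := h.2 _ hξ'
  convert mul_mem hX hY using 1
  refine gl_ext fun x => ?_
  rw [tv_mulVec hd, Units.val_mul, ← mulVec_mulVec, hy, hx, dotProduct_add, dotProduct_smul, h.1,
    smul_eq_mul, mul_one]
  funext i
  simp only [Pi.add_apply, Pi.smul_apply, Pi.sub_apply, smul_eq_mul]
  field_simp
  ring

/-- Two homologies with the same centre. -/
theorem tv_of_two_axes {a α α' : ι → F} {ξ : F} (hξ : 1 + ξ ≠ 0) (h : Hom K a α) (h' : Hom K a α') :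
    tv a (ξ • (α' - α)) ∈ K := by
  have hd : (ξ • (α' - α)) ⬝ᵥ a = 0 := by
    rw [smul_dotProduct, sub_dotProduct, h.1, h'.1, sub_self, smul_zero]
  have hξ' : (1 : F) + -ξ / (1 + ξ) ≠ 0 := by
    rw [add_div' _ _ _ hξ]; simp [hξ]
  obtain ⟨X, hX, hx⟩ := h'.2 ξ hξ
  obtain ⟨Y, hY, hy⟩ := h.2 _ hξ'
  convert mul_mem hX hY using 1
  refine gl_ext fun x => ?_
  rw [tv_mulVec hd, Units.val_mul, ← mulVec_mulVec, hy, hx, dotProduct_add, dotProduct_smul, h'.1,
    smul_eq_mul, mul_one, smul_dotProduct, sub_dotProduct]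
  funext i
  simp only [Pi.add_apply, Pi.smul_apply, smul_eq_mul]
  field_simp
  ring

/-- A coordinate in the centre but not in the axis, or conversely. -/
theorem Full.el_of_asym (hK : Full K) (hq : 5 ≤ Nat.card F) {a α : ι → F} (h : Hom K a α) {m : ι}
    (hm : (a m ≠ 0 ∧ α m = 0) ∨ (a m = 0 ∧ α m ≠ 0)) : HasEl K := by
  obtain ⟨s, hs⟩ := exists_scalar_ne_one (F := F) (by omega)
  have hs1 : (s : F) - 1 ≠ 0 := fun h => hs (Units.ext (sub_eq_zero.mp h))
  have hs1' : ((s⁻¹ : Fˣ) : F) - 1 ≠ 0 := fun h => hs (inv_eq_one.mp (Units.ext (sub_eq_zero.mp h)))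
  obtain ⟨ξ, hξ0, hξ⟩ : ∃ ξ : F, ξ ≠ 0 ∧ 1 + ξ ≠ 0 := by
    classical
    haveI := Fintype.ofFinite F
    obtain ⟨ξ, -, hξ⟩ := Finset.exists_mem_notMem_of_card_lt_card (s := ({0, -1} : Finset F))
      (t := Finset.univ) (by
        rw [Finset.card_univ, ← Nat.card_eq_fintype_card]
        exact Finset.card_le_two.trans_lt (by omega))
    simp only [Finset.mem_insert, Finset.mem_singleton, not_or] at hξ
    exact ⟨ξ, hξ.1, fun h => hξ.2 (by linear_combination h)⟩
  have h' := h.conj (hK.diag (Function.update (1 : ι → Fˣ) m s))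
  rw [dg_mulVec, vecMul_dg_inv] at h'
  rcases hm with ⟨ham, hαm⟩ | ⟨ham, hαm⟩
  · rw [show (fun i => α i * (((Function.update (1 : ι → Fˣ) m s i)⁻¹ : Fˣ) : F)) = α from funext fun i => by
      by_cases hi : i = m
      · subst hi; simp [hαm]
      · simp [Function.update_of_ne hi]] at h'
    have h2 := tv_of_two_centres hξ h h'
    rw [show (fun i => ((Function.update (1 : ι → Fˣ) m s i : Fˣ) : F) * a i) - a =
        (((s : F) - 1) * a m) • Pi.single m 1 from funext fun i => by
          by_cases hi : i = m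
          · subst hi; simp; ring
          · simp [Function.update_of_ne hi, Pi.single_eq_of_ne hi], smul_smul] at h2
    have h0 : α ⬝ᵥ (Pi.single m 1 : ι → F) = 0 := by simp [hαm]
    rw [tv_smul_comm _ h0] at h2
    refine hK.el_of_centre (by omega) (e := m) ⟨by simp [hαm], h2⟩ ?_
    refine smul_ne_zero (mul_ne_zero (div_ne_zero hξ0 hξ) (mul_ne_zero hs1 ham)) fun h0' => ?_
    have := h.1
    simp [h0'] at this
  · rw [show (fun i => ((Function.update (1 : ι → Fˣ) m s i : Fˣ) : F) * a i) = a from funext fun i => by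
      by_cases hi : i = m
      · subst hi; simp [ham]
      · simp [Function.update_of_ne hi]] at h'
    have h2 := tv_of_two_axes hξ h h'
    rw [show ξ • ((fun i => α i * (((Function.update (1 : ι → Fˣ) m s i)⁻¹ : Fˣ) : F)) - α) =
        Pi.single m (ξ * (α m * (((s⁻¹ : Fˣ) : F) - 1))) from funext fun i => by
          by_cases hi : i = m
          · subst hi; simp [mul_sub]
          · simp [Function.update_of_ne hi, Pi.single_eq_of_ne hi]] at h2
    refine hK.el_of_axis (by omega) ⟨by simp [ham], h2⟩ (mul_ne_zero hξ0 (mul_ne_zero hαm hs1')) fun h0 => ?_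
    have := h.1
    simp [h0] at this

omit [Fintype ι] [DecidableEq ι] [Finite F] in
/-- The parameters of the axis-fixing product. -/
theorem exists_params [Fintype F] [DecidableEq F] (hq : 5 ≤ Fintype.card F) {c : F} (hc : c ≠ 0)
    (hgood : 2 * c ≠ 1 ∨ 5 < Fintype.card F) :
    ∃ ξ η : F, ξ ≠ 0 ∧ 1 + ξ ≠ 0 ∧ η ≠ 0 ∧ η ≠ 1 ∧ 1 + ξ + ξ * (η - 1) * c ≠ 0 ∧
      ξ * η * (1 - c) ≠ 1 + ξ - ξ * c ∧ η * (-1 - ξ * c) ≠ 1 + ξ - ξ * c := by
  by_cases h2 : 2 * c = 1
  · have h5 : 5 < Fintype.card F := hgood.resolve_left (not_not.mpr h2)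
    obtain ⟨ξ, -, hξ⟩ := Finset.exists_mem_notMem_of_card_lt_card (s := ({0, -1, -2} : Finset F))
      (t := Finset.univ) (Finset.card_le_three.trans_lt (by rw [Finset.card_univ]; omega))
    simp only [Finset.mem_insert, Finset.mem_singleton, not_or] at hξ
    obtain ⟨η, -, hη⟩ := Finset.exists_mem_notMem_of_card_lt_card
      (s := ({0, 1, -1, (2 + ξ) / ξ, -((2 + ξ) / ξ)} : Finset F))
      (t := Finset.univ) (Finset.card_le_five.trans_lt (by rw [Finset.card_univ]; omega))
    simp only [Finset.mem_insert, Finset.mem_singleton, not_or] at hη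
    refine ⟨ξ, η, hξ.1, fun h => hξ.2.1 (by linear_combination h), hη.1, hη.2.1, fun h => hη.2.2.2.2 ?_,
      fun h => hη.2.2.2.1 ?_, fun h => hη.2.2.1 ?_⟩
    · field_simp [hξ.1]
      linear_combination (2 : F) * h - (ξ * (η - 1)) * h2
    · field_simp [hξ.1]
      linear_combination (2 : F) * h + (ξ * η - ξ) * h2
    · have h3 : (η + 1) * (2 + ξ) = 0 := by linear_combination (-2 : F) * h - (ξ * η - ξ) * h2
      rcases mul_eq_zero.mp h3 with h4 | h4
      · linear_combination h4
      · exact absurd (by linear_combination h4) hξ.2.2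
  · by_cases hc1 : c = 1
    · subst hc1
      obtain ⟨ξ, -, hξ⟩ := Finset.exists_mem_notMem_of_card_lt_card (s := ({0, -1} : Finset F))
        (t := Finset.univ) (Finset.card_le_two.trans_lt (by rw [Finset.card_univ]; omega))
      simp only [Finset.mem_insert, Finset.mem_singleton, not_or] at hξ
      have hξ1 : 1 + ξ ≠ 0 := fun h => hξ.2 (by linear_combination h)
      obtain ⟨η, -, hη⟩ := Finset.exists_mem_notMem_of_card_lt_card
        (s := ({0, 1, -1 / ξ, -1 / (1 + ξ)} : Finset F))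
        (t := Finset.univ) (Finset.card_le_four.trans_lt (by rw [Finset.card_univ]; omega))
      simp only [Finset.mem_insert, Finset.mem_singleton, not_or] at hη
      refine ⟨ξ, η, hξ.1, hξ1, hη.1, hη.2.1, fun h => hη.2.2.1 ?_, fun h => one_ne_zero (α := F) ?_,
        fun h => hη.2.2.2 ?_⟩
      · field_simp [hξ.1]; linear_combination h
      · linear_combination -h
      · field_simp [hξ1]; linear_combination -h
    · have hξ1 : 1 + -(1 / c) ≠ 0 := fun h => hc1 (by field_simp at h; linear_combination h)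
      have h21 : (2 : F) - 1 / c ≠ 0 := fun h => h2 (by field_simp at h; linear_combination h)
      obtain ⟨η, -, hη⟩ := Finset.exists_mem_notMem_of_card_lt_card
        (s := ({0, 1, 2 - 1 / c, (2 - 1 / c) / (-(1 - c) / c)} : Finset F))
        (t := Finset.univ) (Finset.card_le_four.trans_lt (by rw [Finset.card_univ]; omega))
      simp only [Finset.mem_insert, Finset.mem_singleton, not_or] at hη
      have hd : -(1 - c) / c ≠ 0 := div_ne_zero (neg_ne_zero.mpr (sub_ne_zero.mpr (Ne.symm hc1))) hc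
      refine ⟨-(1 / c), η, by simp [hc], hξ1, hη.1, hη.2.1, fun h => hη.2.2.1 ?_, fun h => hη.2.2.2 ?_,
        fun h => h21 ?_⟩
      · field_simp at h ⊢; linear_combination -h
      · rw [eq_div_iff hd]; field_simp at h ⊢; linear_combination h
      · field_simp at h ⊢; linear_combination -h

/-- A usable coordinate pair. -/
theorem Full.el_of_good (hK : Full K) (hq : 5 ≤ Nat.card F) {a α : ι → F} (h : Hom K a α) {k l : ι}
    (hkl : k ≠ l) (hak : a k ≠ 0) (hαk : α k ≠ 0) (hαl : α l ≠ 0)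
    (hgood : 2 * (α k * a k) ≠ 1 ∨ 5 < Nat.card F) : HasEl K := by
  classical
  haveI := Fintype.ofFinite F
  rw [Nat.card_eq_fintype_card] at hgood
  obtain ⟨ξ, η, hξ, hξ1, hη, hη1, hD, hneg, hdiff⟩ :=
    exists_params (by rwa [← Nat.card_eq_fintype_card]) (mul_ne_zero hαk hak) hgood
  set c := α k * a k with hc
  set ξ' := -(ξ * η) / (1 + ξ + ξ * (η - 1) * c) with hξ'
  have e1 : ξ' * (1 + ξ + ξ * (η - 1) * c) = -(ξ * η) := by rw [hξ']; field_simp
  have hξ'1 : 1 + ξ' ≠ 0 := fun h0 => hneg (by linear_combination e1 - (1 + ξ + ξ * (η - 1) * c) * h0)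
  have hne : ξ' ≠ ξ := fun h0 => hdiff (mul_left_cancel₀ hξ (by linear_combination -e1 + (1 + ξ + ξ * (η - 1) * c) * h0))
  obtain ⟨X, hX, hx⟩ := h.2 ξ hξ1
  obtain ⟨X', hX', hx'⟩ := h.2 ξ' hξ'1
  set D := dg (Function.update (1 : ι → Fˣ) k (Units.mk0 η hη)) with hDdef
  set z := X * D * X' with hz
  have hzK : z ∈ K := mul_mem (mul_mem hX (hK.diag _)) hX'
  have hDv : ∀ x : ι → F, (D : Matrix ι ι F) *ᵥ x = x + ((η - 1) * x k) • Pi.single k 1 := fun x => by
    rw [hDdef, dg_mulVec]; funext i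
    by_cases hi : i = k
    · subst hi; simp; ring
    · simp [Function.update_of_ne hi, Pi.single_eq_of_ne hi]
  have hzv : ∀ x : ι → F, (z : Matrix ι ι F) *ᵥ x =
      (x + (ξ' * (α ⬝ᵥ x)) • a + ((η - 1) * (x k + ξ' * (α ⬝ᵥ x) * a k)) • Pi.single k 1) +
        (ξ * ((α ⬝ᵥ x) + ξ' * (α ⬝ᵥ x) + (η - 1) * (x k + ξ' * (α ⬝ᵥ x) * a k) * α k)) • a := fun x => by
    rw [hz, Units.val_mul, Units.val_mul, ← mulVec_mulVec, ← mulVec_mulVec, hx', hDv, hx]
    simp only [dotProduct_add, dotProduct_smul, h.1, Pi.add_apply, Pi.smul_apply, smul_eq_mul,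
      dotProduct_single, mul_one]
  -- the column `k`
  set E := η + (η - 1) * ξ' * c with hE
  have hcol : (z : Matrix ι ι F) *ᵥ Pi.single k 1 = E • Pi.single k 1 := by
    rw [hzv, dotProduct_single, mul_one]
    funext i
    simp only [Pi.add_apply, Pi.smul_apply, smul_eq_mul, Pi.single_eq_same]
    by_cases hi : i = k
    · subst hi; simp only [Pi.single_eq_same, hE, hc] at *; linear_combination (α i * a i) * e1
    · rw [Pi.single_eq_of_ne hi, hc] at *; linear_combination (α k * a i) * e1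
  -- the row `k`
  have hrow : ((z : Matrix ι ι F) *ᵥ Pi.single l 1) k ≠ 0 := by
    rw [hzv, dotProduct_single, mul_one]
    simp only [Pi.add_apply, Pi.smul_apply, smul_eq_mul, Pi.single_eq_same, Pi.single_eq_of_ne hkl]
    intro h0
    have h1 : (η - 1) * (ξ' - ξ) * (α l * a k) = 0 := by rw [hc] at e1; linear_combination h0 - (α l * a k) * e1
    rcases mul_eq_zero.mp h1 with h2 | h2
    · exact mul_ne_zero (sub_ne_zero.mpr hη1) (sub_ne_zero.mpr hne) h2
    · exact mul_ne_zero hαl hak h2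
  have hH := (hK.hom_axis k).conj hzK
  rw [hcol] at hH
  by_contra hno
  refine hrow ?_
  have hzero : ∀ m, m ≠ k → ((Pi.single k 1 : ι → F) ᵥ* ((z⁻¹ : GL ι F) : Matrix ι ι F)) m = 0 := fun m hm => by
    by_contra hm0
    exact hno (hK.el_of_asym hq hH (m := m) (Or.inr ⟨by simp [Pi.single_eq_of_ne hm], hm0⟩))
  set β := (Pi.single k 1 : ι → F) ᵥ* ((z⁻¹ : GL ι F) : Matrix ι ι F) with hβ
  have hβk : β = Pi.single k (β k) := funext fun m => by
    by_cases hm : m = k
    · subst hm; simp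
    · rw [Pi.single_eq_of_ne hm]; exact hzero m hm
  have h2 := vecMul_inv_dotProduct z (Pi.single k 1) (Pi.single l 1)
  rw [← hβ, hβk, single_dotProduct, single_dotProduct, Pi.single_eq_of_ne hkl, mul_zero] at h2
  refine (mul_eq_zero.mp h2).resolve_left fun h0 => ?_
  have h3 := hH.1
  rw [hβk, h0] at h3
  simp at h3

/-- A subgroup with all monomial matrices and a further element. -/
theorem Full.hasEl (hK : Full K) (h3 : 3 ≤ Fintype.card ι) (hq : 5 ≤ Nat.card F) {A : GL ι F} (hA : A ∈ K)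
    (hmon : ¬ Mon A) : HasEl K := by
  obtain ⟨j, i, i', hii, hi, hi'⟩ := exists_two_of_not_mon hmon
  have h := (hK.hom_axis j).conj hA
  set a := (A : Matrix ι ι F) *ᵥ Pi.single j 1 with ha
  set α := (Pi.single j 1 : ι → F) ᵥ* ((A⁻¹ : GL ι F) : Matrix ι ι F) with hα
  have hai : a i ≠ 0 := by simpa [ha, mulVec_single_one] using hi
  have hai' : a i' ≠ 0 := by simpa [ha, mulVec_single_one] using hi'
  by_cases hasym : ∃ m, (a m ≠ 0 ∧ α m = 0) ∨ (a m = 0 ∧ α m ≠ 0)
  · obtain ⟨m, hm⟩ := hasym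
    exact hK.el_of_asym hq h hm
  push Not at hasym
  have hsupp : ∀ m, a m ≠ 0 → α m ≠ 0 := fun m hm => (hasym m).1 hm
  by_cases hgood : ∃ k, a k ≠ 0 ∧ (2 * (α k * a k) ≠ 1 ∨ 5 < Nat.card F)
  · obtain ⟨k, hk, hg⟩ := hgood
    obtain ⟨l, hl, hlk⟩ : ∃ l, a l ≠ 0 ∧ l ≠ k := by
      by_cases hik : i = k
      · exact ⟨i', hai', fun e => hii (hik.trans e.symm)⟩
      · exact ⟨i, hai, hik⟩
    exact hK.el_of_good hq h hlk.symm hk (hsupp k hk) (hsupp l hl) hg
  push Not at hgood
  -- five elements and all products equal to a half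
  have h5 : (5 : F) = 0 := by
    haveI := Fintype.ofFinite F
    have := Nat.cast_card_eq_zero F
    rw [show Fintype.card F = 5 by rw [← Nat.card_eq_fintype_card]; have := (hgood i hai).2; omega] at this
    exact_mod_cast this
  have hhalf : ∀ k, a k ≠ 0 → α k * a k = 3 := fun k hk => by
    linear_combination (3 : F) * (hgood k hk).1 - (α k * a k) * h5
  have hnz : ∀ n : F, n = 1 ∨ n = 2 ∨ n = 3 ∨ n = 4 → n ≠ 0 := by
    rintro n hn rfl
    rcases hn with h | h | h | h
    · exact zero_ne_one h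
    · exact one_ne_zero (α := F) (by linear_combination h5 + (2 : F) * h)
    · exact one_ne_zero (α := F) (by linear_combination (2 : F) * h5 + (3 : F) * h)
    · exact one_ne_zero (α := F) (by linear_combination h5 + h)
  obtain ⟨s, hs2⟩ : ∃ s : Fˣ, (s : F) = 2 := ⟨Units.mk0 2 (hnz 2 (by simp)), rfl⟩
  have hsinv : (s : F)⁻¹ = 3 := by
    rw [hs2]
    exact inv_eq_of_mul_eq_one_right (by linear_combination h5)
  -- a conjugate of the homology by a second one
  have hY : ∀ (a' α' : ι → F) (ξ : F), 1 + ξ ≠ 0 → Hom K a' α' →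
      Hom K (a' + (ξ * (α ⬝ᵥ a')) • a) (α' + (-ξ / (1 + ξ) * (α' ⬝ᵥ a)) • α) := by
    intro a' α' ξ hξ h'
    obtain ⟨X, hX, hx⟩ := h.2 ξ hξ
    have h2 := h'.conj hX
    rw [hx] at h2
    convert h2 using 1
    set β := α' + (-ξ / (1 + ξ) * (α' ⬝ᵥ a)) • α
    have hβ : β ᵥ* (X : Matrix ι ι F) = α' := funext fun m => by
      have := dotProduct_mulVec β (X : Matrix ι ι F) (Pi.single m 1)
      rw [hx] at this
      simp only [dotProduct_single, mul_one] at this
      rw [← this, dotProduct_add, dotProduct_smul, dotProduct_single, mul_one,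
        add_dotProduct, smul_dotProduct, h.1]
      simp only [β, Pi.add_apply, Pi.smul_apply, smul_eq_mul, mul_one]
      field_simp
      ring
    rw [← hβ, vecMul_vecMul, Units.mul_inv, vecMul_one]
  obtain ⟨p, hp, hpi, hpi'⟩ | hnot :=
    Classical.em (∃ p, a p ≠ 0 ∧ p ≠ i ∧ p ≠ i') |>.imp id id
  · -- at least three coordinates: scale one of them
    have h' := h.conj (hK.diag (Function.update (1 : ι → Fˣ) p s))
    rw [dg_mulVec, vecMul_dg_inv] at h'
    set a' := fun m => ((Function.update (1 : ι → Fˣ) p s m : Fˣ) : F) * a m with ha'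
    set α' := fun m => α m * (((Function.update (1 : ι → Fˣ) p s m)⁻¹ : Fˣ) : F) with hα'
    have hP : α ⬝ᵥ a' = 4 := by
      have : a' = a + Pi.single p (a p) := funext fun m => by
        by_cases hm : m = p
        · subst hm; simp [ha', hs2]; ring
        · simp [ha', Function.update_of_ne hm, Pi.single_eq_of_ne hm]
      rw [this, dotProduct_add, dotProduct_single, h.1, hhalf p hp]
      norm_num
    have hQ : α' ⬝ᵥ a = 2 := by
      have : α' = α + Pi.single p (2 * α p) := funext fun m => by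
        by_cases hm : m = p
        · subst hm; simp [hα', hsinv]; ring
        · simp [hα', Function.update_of_ne hm, Pi.single_eq_of_ne hm]
      rw [this, add_dotProduct, single_dotProduct, h.1, mul_assoc, hhalf p hp]
      linear_combination h5
    have h12 : (1 : F) + 2 ≠ 0 := by
      rw [show (1 : F) + 2 = 3 by norm_num]; exact hnz 3 (by simp)
    have h'' := hY a' α' 2 h12 h'
    rw [hP, hQ] at h''
    have hdiv : -(2 : F) / (1 + 2) * 2 = 2 := by
      field_simp
      linear_combination -(2 : F) * h5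
    have hval : ∀ m, m ≠ p → (a' + ((2 : F) * 4) • a) m = 4 * a m ∧
        (α' + (-(2 : F) / (1 + 2) * 2) • α) m = 3 * α m := fun m hm => by
      rw [hdiv]
      simp only [Pi.add_apply, Pi.smul_apply, smul_eq_mul, ha', hα', Function.update_of_ne hm, Pi.one_apply,
        inv_one, Units.val_one, mul_one, one_mul]
      exact ⟨by linear_combination a m * h5, by ring⟩
    refine hK.el_of_good hq h'' (k := i) (l := i') hii ?_ ?_ ?_ (Or.inl ?_)
    · rw [(hval i hpi.symm).1]; exact mul_ne_zero (hnz 4 (by simp)) hai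
    · rw [(hval i hpi.symm).2]; exact mul_ne_zero (hnz 3 (by simp)) (hsupp i hai)
    · rw [(hval i' hpi'.symm).2]; exact mul_ne_zero (hnz 3 (by simp)) (hsupp i' hai')
    · rw [(hval i hpi.symm).1, (hval i hpi.symm).2]
      intro e
      exact hnz 1 (by simp) (by linear_combination e - (24 : F) * hhalf i hai - (14 : F) * h5)
  · -- two coordinates: use a permutation
    push Not at hnot
    obtain ⟨m, hm⟩ : ∃ m, m ∉ ({i, i'} : Finset ι) := by
      by_contra hh
      push Not at hh
      have := (Finset.card_le_card (show (Finset.univ : Finset ι) ⊆ {i, i'} from fun x _ => hh x)).trans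
        Finset.card_le_two
      rw [Finset.card_univ] at this
      omega
    simp only [Finset.mem_insert, Finset.mem_singleton, not_or] at hm
    have hout : ∀ p, p ≠ i → p ≠ i' → a p = 0 ∧ α p = 0 := fun p h1 h2 => by
      have h0 : a p = 0 := by by_contra h0; exact h2 (hnot p h0 h1)
      exact ⟨h0, (hasym p).2 h0⟩
    obtain ⟨u, hu, -⟩ := hK.mon.exists_perm_mem (Equiv.swap i' m) i
    have hpm : (pm (Equiv.swap i' m) : GL ι F) ∈ K := by
      have := mul_mem hu (inv_mem (hK.diag u))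
      rwa [mul_inv_cancel_right] at this
    have h' := h.conj hpm
    set g : GL ι F := pm (Equiv.swap i' m) with hg
    have hgv : ∀ x : ι → F, (g : Matrix ι ι F) *ᵥ x = fun r => x (Equiv.swap i' m r) := fun x => by
      funext r
      rw [hg]
      simp only [Matrix.mulVec, dotProduct, pm_apply]
      rw [Finset.sum_eq_single (Equiv.swap i' m r)]
      · simp
      · intro b _ hb; rw [if_neg (fun e => hb (by rw [e]; simp)), zero_mul]
      · simp
    have hgv' : α ᵥ* ((g⁻¹ : GL ι F) : Matrix ι ι F) = fun r => α (Equiv.swap i' m r) := by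
      have hβ : (fun r => α (Equiv.swap i' m r)) ᵥ* (g : Matrix ι ι F) = α := funext fun r => by
        rw [hg]
        simp [Matrix.vecMul, dotProduct, pm_apply]
      conv_lhs => rw [← hβ]
      rw [vecMul_vecMul, Units.mul_inv, vecMul_one]
    rw [hgv, hgv'] at h'
    set a' := fun r => a (Equiv.swap i' m r) with ha'
    set α' := fun r => α (Equiv.swap i' m r) with hα'
    have hdot : ∀ (x y : ι → F), x ⬝ᵥ y = ∑ r, x r * y r := fun _ _ => rfl
    have si : Equiv.swap i' m i = i := Equiv.swap_apply_of_ne_of_ne hii (Ne.symm hm.1)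
    have hP : α ⬝ᵥ a' = 3 := by
      rw [hdot, Finset.sum_eq_single i]
      · rw [ha']; simp only [si]; exact hhalf i hai
      · intro r _ hr
        by_cases hr' : r = i'
        · subst hr'; simp [ha', (hout m hm.1 hm.2).1]
        · rw [(hout r hr hr').2, zero_mul]
      · simp
    have hQ : α' ⬝ᵥ a = 3 := by
      rw [hdot, Finset.sum_eq_single i]
      · rw [hα']; simp only [si]; exact hhalf i hai
      · intro r _ hr
        by_cases hr' : r = i'
        · subst hr'; simp [hα', (hout m hm.1 hm.2).2]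
        · rw [(hout r hr hr').1, mul_zero]
      · simp
    have h2ne : (1 : F) + 1 ≠ 0 := by
      rw [show (1 : F) + 1 = 2 by norm_num]; exact hnz 2 (by simp)
    have h'' := hY a' α' 1 h2ne h'
    rw [hP, hQ] at h''
    have hdiv : -(1 : F) / (1 + 1) * 3 = 1 := by
      field_simp
      linear_combination -h5
    rw [hdiv] at h''
    refine hK.el_of_good hq h'' (k := i) (l := m) (Ne.symm hm.1) ?_ ?_ ?_ (Or.inl ?_)
    · simp only [Pi.add_apply, Pi.smul_apply, smul_eq_mul, ha', si]
      rw [show a i + 1 * 3 * a i = 4 * a i by ring]; exact mul_ne_zero (hnz 4 (by simp)) hai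
    · simp only [Pi.add_apply, Pi.smul_apply, smul_eq_mul, hα', si]
      rw [show α i + 1 * α i = 2 * α i by ring]; exact mul_ne_zero (hnz 2 (by simp)) (hsupp i hai)
    · simp only [Pi.add_apply, Pi.smul_apply, smul_eq_mul, hα', Equiv.swap_apply_right]
      rw [(hout m hm.1 hm.2).2, mul_zero, add_zero]; exact hsupp i' hai'
    · simp only [Pi.add_apply, Pi.smul_apply, smul_eq_mul, ha', hα', si]
      intro e
      exact hnz 2 (by simp) (by linear_combination e - (16 : F) * hhalf i hai - (9 : F) * h5)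

end Cfsg.Agent.MaxSub.Frame
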