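import Cfsg.Agent.MaxSub.Frame.Axis

/-!
A subgroup of the special linear group properly containing the monomial group is everything, `|F| ≥ 5`
and at least seven coordinates (helper74).
-/

set_option autoImplicit false

namespace Cfsg.Agent.MaxSub.Frame

open Matrix
open scoped MatrixGroups

variable {ι : Type} [Fintype ι] [DecidableEq ι] {F : Type*} [Field F]

/-- The inverse of the transpose. -/
def dual : GL ι F →* GL ι F where
  toFun g := ⟨((g⁻¹ : GL ι F) : Matrix ι ι F)ᵀ, (g : Matrix ι ι F)ᵀ,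
    by rw [← transpose_mul, Units.mul_inv, transpose_one],
    by rw [← transpose_mul, Units.inv_mul, transpose_one]⟩
  map_one' := Units.ext (by simp)
  map_mul' g h := Units.ext (by simp [transpose_mul, _root_.mul_inv_rev])

theorem dual_coe (g : GL ι F) :
    (dual g : Matrix ι ι F) = ((g⁻¹ : GL ι F) : Matrix ι ι F)ᵀ := rfl

theorem dual_inv_coe (g : GL ι F) :
    (dual g⁻¹ : Matrix ι ι F) = (g : Matrix ι ι F)ᵀ := by rw [dual_coe, inv_inv]

theorem dual_dual (g : GL ι F) : dual (dual g) = g := Units.ext (by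
  rw [dual_coe, ← map_inv, dual_inv_coe, transpose_transpose])

theorem det_dual (g : GL ι F) :
    Matrix.GeneralLinearGroup.det (dual g) = (Matrix.GeneralLinearGroup.det g)⁻¹ := by
  refine Units.ext ?_
  rw [← map_inv, Matrix.GeneralLinearGroup.val_det_apply, dual_coe, det_transpose,
    ← Matrix.GeneralLinearGroup.val_det_apply]

theorem Mon.dual {g : GL ι F} (hg : Mon g) : Mon (dual g) := by
  obtain ⟨σ, hσ⟩ := hg.inv.exists_perm
  refine ⟨(σ⁻¹ : Equiv.Perm ι), fun a b hab => ?_⟩
  rw [dual_coe, transpose_apply]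
  exact hσ b a fun e => hab (by rw [e]; simp)

variable [Finite F] {M : Subgroup (GL ι F)}

theorem Setup.dual (hM : Setup M) : Setup (M.map dual) where
  mon := fun g hg hdet => ⟨Frame.dual g,
    hM.mon _ hg.dual (by rw [det_dual, hdet, inv_one]), dual_dual g⟩
  sl := by
    rintro - ⟨g, hg, rfl⟩
    show Matrix.GeneralLinearGroup.det _ = 1
    rw [det_dual, show Matrix.GeneralLinearGroup.det g = 1 from hM.sl hg, inv_one]
  noel := by
    rintro i j c hij hc ⟨g, hg, he⟩
    refine hM.noel j i (-c) hij.symm (neg_ne_zero.mpr hc) ?_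
    suffices h : g = el j i (-c) from h ▸ hg
    rw [← dual_dual g, he]
    have hcoe : (((el i j c)⁻¹ : GL ι F) : Matrix ι ι F) = transvection i j (-c) := by
      rw [show (el i j c)⁻¹ = el i j (-c) by
        rw [el, tv_inv (el_ortho hij c), el, Pi.single_neg], el_coe hij]
    refine Units.ext ?_
    rw [dual_coe, hcoe, el_coe hij.symm]
    simp [transvection, transpose_add]
  card := hM.card
  q := hM.q

/-- Three columns of `n - 1` cannot be independent when it has rank two. -/
theorem tri {n : Matrix ι ι F} {σ : ι → ι} (hn : MonAt σ n) {p q : ι → F} {A B : ι → F}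
    (hrk : ∀ a k, n a k = (1 : Matrix ι ι F) a k + p a * A k + q a * B k) {k₁ k₂ k₃ : ι}
    (hm : ∀ k ∈ [k₁, k₂, k₃], σ k ≠ k) (h12 : k₁ ≠ k₂) (h12' : k₁ ≠ σ k₂) (h13 : k₁ ≠ k₃)
    (h13' : k₁ ≠ σ k₃) (h23 : k₂ ≠ k₃) (h23' : k₂ ≠ σ k₃) : False := by
  obtain ⟨c, hc0, hc⟩ : ∃ c : Fin 3 → F, c ≠ 0 ∧
      A k₁ * c 0 + A k₂ * c 1 + A k₃ * c 2 = 0 ∧ B k₁ * c 0 + B k₂ * c 1 + B k₃ * c 2 = 0 := by
    let L : (Fin 3 → F) →ₗ[F] (Fin 2 → F) := Matrix.mulVecLin !![A k₁, A k₂, A k₃; B k₁, B k₂, B k₃]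
    have hk : L.ker ≠ ⊥ := LinearMap.ker_ne_bot_of_finrank_lt (by simp)
    obtain ⟨c, hc, hc0⟩ := Submodule.exists_mem_ne_zero_of_ne_bot hk
    have h0 := congrFun (LinearMap.mem_ker.mp hc) 0
    have h1 := congrFun (LinearMap.mem_ker.mp hc) 1
    simp [L, Matrix.mulVec, dotProduct, Fin.sum_univ_three] at h0 h1
    exact ⟨c, hc0, h0, h1⟩
  have hrow : ∀ a, c 0 * (n a k₁ - (1 : Matrix ι ι F) a k₁) + c 1 * (n a k₂ - (1 : Matrix ι ι F) a k₂) +
      c 2 * (n a k₃ - (1 : Matrix ι ι F) a k₃) = 0 := fun a => by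
    rw [hrk, hrk, hrk]
    linear_combination p a * hc.1 + q a * hc.2
  have hoff : ∀ a k, a ≠ k → a ≠ σ k → n a k - (1 : Matrix ι ι F) a k = 0 := fun a k h h' => by
    rw [hn a k h', one_apply_ne h, sub_zero]
  have hdiag : ∀ k, σ k ≠ k → n k k - (1 : Matrix ι ι F) k k = -1 := fun k h => by
    rw [hn k k (Ne.symm h), one_apply_eq, zero_sub]
  have e1 : c 0 = 0 := by
    have := hrow k₁
    rw [hoff k₁ k₂ h12 h12', hoff k₁ k₃ h13 h13', hdiag k₁ (hm _ (by simp))] at this
    linear_combination -this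
  have e2 : c 1 = 0 := by
    have := hrow k₂
    rw [hoff k₂ k₃ h23 h23', hdiag k₂ (hm _ (by simp)), e1] at this
    linear_combination -this
  have e3 : c 2 = 0 := by
    have := hrow k₃
    rw [hdiag k₃ (hm _ (by simp)), e1, e2] at this
    linear_combination -this
  exact hc0 (funext fun x => by fin_cases x <;> assumption)

theorem pr_mulVec {a b : ι} (hab : a ≠ b) (s : Fˣ) (x : ι → F) :
    (dg (pr a b s) : Matrix ι ι F) *ᵥ x =
      x + ((s : F) - 1) • (x a • Pi.single a 1) + (((s⁻¹ : Fˣ) : F) - 1) • (x b • Pi.single b 1) := by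
  rw [dg_mulVec]
  funext i
  by_cases hia : i = a
  · subst hia; simp [pr_left hab, Pi.single_eq_of_ne hab]; ring
  by_cases hib : i = b
  · subst hib; simp [pr_right hab, Pi.single_eq_of_ne (Ne.symm hab)]; ring
  · simp [pr_other hia hib, Pi.single_eq_of_ne hia, Pi.single_eq_of_ne hib]

theorem conj_pr_apply (g : GL ι F) {a b : ι} (hab : a ≠ b) (s : Fˣ) (m k : ι) :
    ((g * dg (pr a b s) * g⁻¹ : GL ι F) : Matrix ι ι F) m k = (1 : Matrix ι ι F) m k +
      (g : Matrix ι ι F) m a * (((s : F) - 1) * ((g⁻¹ : GL ι F) : Matrix ι ι F) a k) +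
      (g : Matrix ι ι F) m b * ((((s⁻¹ : Fˣ) : F) - 1) * ((g⁻¹ : GL ι F) : Matrix ι ι F) b k) := by
  have h : ((g * dg (pr a b s) * g⁻¹ : GL ι F) : Matrix ι ι F) *ᵥ Pi.single k 1 = Pi.single k 1 +
      ((s : F) - 1) • (((g⁻¹ : GL ι F) : Matrix ι ι F) a k • fun r => (g : Matrix ι ι F) r a) +
      (((s⁻¹ : Fˣ) : F) - 1) • (((g⁻¹ : GL ι F) : Matrix ι ι F) b k • fun r => (g : Matrix ι ι F) r b) := by
    rw [Units.val_mul, Units.val_mul, ← mulVec_mulVec, ← mulVec_mulVec, pr_mulVec hab, mulVec_add,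
      mulVec_add, mulVec_inv_mulVec, mulVec_smul, mulVec_smul, mulVec_smul, mulVec_smul]
    simp only [mulVec_single_one, Matrix.col_apply]
    rfl
  have h2 := congrFun h m
  rw [mulVec_single_one] at h2
  simp only [Matrix.col_apply, Pi.add_apply, Pi.smul_apply, smul_eq_mul] at h2
  rw [h2]
  simp only [Matrix.one_apply, Pi.single_apply]
  ring

/-- A column with two zeros. -/
theorem Setup.mon_of_col (hM : Setup M) {g : GL ι F} (hg : g ∈ M) {i j k : ι} (hij : i ≠ j)
    (hi : (g : Matrix ι ι F) i k = 0) (hj : (g : Matrix ι ι F) j k = 0) : Mon g := by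
  classical
  haveI := Fintype.ofFinite F
  obtain ⟨s, hs2, hs3⟩ : ∃ s : Fˣ, s ^ 2 ≠ 1 ∧ s ^ 3 ≠ 1 := by
    obtain ⟨s, hs⟩ := IsCyclic.exists_generator (α := Fˣ)
    have ho : orderOf s = Nat.card F - 1 := by
      rw [orderOf_eq_card_of_forall_mem_zpowers hs, Nat.card_units]
    have := hM.q
    refine ⟨s, fun h => ?_, fun h => ?_⟩ <;>
    · have := Nat.le_of_dvd (by norm_num) (orderOf_dvd_of_pow_eq_one h)
      omega
  have hd : dg (pr i j s) ∈ M := hM.mon.dg_mem (prod_pr i j s)
  set n := g⁻¹ * dg (pr i j s) * g with hn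
  have hnM : n ∈ M := mul_mem (mul_mem (inv_mem hg) hd) hg
  have hn' : n = g⁻¹ * dg (pr i j s) * g⁻¹⁻¹ := by rw [hn, inv_inv]
  have hentry := fun a b => conj_pr_apply g⁻¹ hij s a b
  rw [← hn', inv_inv] at hentry
  have hnk : ∀ a, a ≠ k → (n : Matrix ι ι F) a k = 0 := fun a ha => by
    rw [hentry, hi, hj, one_apply_ne ha]; ring
  obtain ⟨σ, hσ⟩ := (hM.mon_of_axis hnM hnk).exists_perm
  have per : ∀ x, σ x = x ∨ σ (σ x) = x ∨ σ (σ (σ x)) = x := by
    intro x
    by_contra hx
    simp only [not_or] at hx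
    exact tri hσ hentry (k₁ := x) (k₂ := σ x) (k₃ := σ (σ x))
      (by simp [hx.1]) (Ne.symm hx.1) (Ne.symm hx.2.1) (Ne.symm hx.2.1) (Ne.symm hx.2.2)
      (fun e => hx.1 (σ.injective e).symm) (fun e => hx.2.1 (σ.injective e).symm)
  obtain ⟨o, ho, hso⟩ : ∃ o : ℕ, (∀ x, σ^[o] x = x) ∧ s ^ o ≠ 1 := by
    by_cases h2 : ∀ x, σ (σ x) = x
    · exact ⟨2, h2, hs2⟩
    refine ⟨3, fun x => ?_, hs3⟩
    push Not at h2
    obtain ⟨y, hy⟩ := h2
    have hy1 : σ y ≠ y := fun e => hy (by rw [e, e])
    have hy3 : σ (σ (σ y)) = y := by rcases per y with h | h | h <;> first | exact h | exact absurd h ‹_›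
    show σ (σ (σ x)) = x
    rcases per x with h | h | h
    · rw [h, h, h]
    · by_cases h1 : σ x = x
      · rw [h1, h1, h1]
      exfalso
      refine tri hσ hentry (k₁ := x) (k₂ := y) (k₃ := σ y)
        (by simp [h1, hy1]) (fun e => hy (e ▸ h)) (fun e => hy ?_) (fun e => hy ?_) (fun e => hy ?_)
        (Ne.symm hy1) (Ne.symm hy)
      · subst e; exact σ.injective h
      · subst e; exact σ.injective h
      · subst e; exact σ.injective (σ.injective h)
    · exact h
  have hno : MonAt id ((n ^ o : GL ι F) : Matrix ι ι F) := by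
    rw [Units.val_pow_eq_pow_val]
    intro a b hab
    exact hσ.pow o a b (by rwa [ho])
  have hgn : g * n ^ o = dg (pr i j s) ^ o * g := by
    have : n ^ o = g⁻¹ * dg (pr i j s) ^ o * g⁻¹⁻¹ := by rw [hn', conj_pow]
    rw [this]; group
  obtain ⟨l, hl⟩ : ∃ l, l ∉ ({i, j} : Finset ι) := by
    by_contra hh
    push Not at hh
    have := (Finset.card_le_card (show (Finset.univ : Finset ι) ⊆ {i, j} from fun x _ => hh x)).trans
      Finset.card_le_two
    rw [Finset.card_univ] at this
    have := hM.card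
    omega
  simp only [Finset.mem_insert, Finset.mem_singleton, not_or] at hl
  refine hM.mon_of_diag hg (t := fun a => ((pr i j s a ^ o : Fˣ) : F))
    (t' := fun b => ((n ^ o : GL ι F) : Matrix ι ι F) b b) ⟨i, l, fun e => hso ?_⟩ fun a b hab => ?_
  · simpa [pr_left hij, pr_other hl.1 hl.2] using Units.ext e
  · have h := congrArg (fun m : GL ι F => (m : Matrix ι ι F) a b) hgn
    rw [Units.val_mul, Units.val_mul, Units.val_pow_eq_pow_val (dg (pr i j s)), dg_coe,
      diagonal_pow, diagonal_mul, Matrix.mul_apply,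
      Finset.sum_eq_single b (fun x _ hx => by rw [hno x b hx, mul_zero])
        (fun h => absurd (Finset.mem_univ _) h)] at h
    simp only [Pi.pow_apply] at h
    rw [Units.val_pow_eq_pow_val]
    exact mul_right_cancel₀ hab (by rw [← h]; ring)

/-- A row with two zeros. -/
theorem Setup.mon_of_row (hM : Setup M) {g : GL ι F} (hg : g ∈ M) {i j k : ι} (hij : i ≠ j)
    (hi : (g : Matrix ι ι F) k i = 0) (hj : (g : Matrix ι ι F) k j = 0) : Mon g := by
  have h := hM.dual.mon_of_col (g := Frame.dual g⁻¹) (Subgroup.mem_map.mpr ⟨_, inv_mem hg, rfl⟩)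
    (k := k) hij (by rwa [dual_inv_coe, transpose_apply]) (by rwa [dual_inv_coe, transpose_apply])
  have h2 := h.dual
  rw [dual_dual] at h2
  simpa using h2.inv

theorem card_zero_col (hM : Setup M) {g : GL ι F} (hg : g ∈ M) (hgn : ¬ Mon g) (k : ι)
    [DecidablePred fun m => (g : Matrix ι ι F) m k = 0] :
    (Finset.univ.filter fun m => (g : Matrix ι ι F) m k = 0).card ≤ 1 := by
  rw [Finset.card_le_one]
  intro a ha b hb
  by_contra hab
  exact hgn (hM.mon_of_col hg hab (Finset.mem_filter.mp ha).2 (Finset.mem_filter.mp hb).2)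

theorem card_zero_row (hM : Setup M) {g : GL ι F} (hg : g ∈ M) (hgn : ¬ Mon g) (k : ι)
    [DecidablePred fun m => (g : Matrix ι ι F) k m = 0] :
    (Finset.univ.filter fun m => (g : Matrix ι ι F) k m = 0).card ≤ 1 := by
  rw [Finset.card_le_one]
  intro a ha b hb
  by_contra hab
  exact hgn (hM.mon_of_row hg hab (Finset.mem_filter.mp ha).2 (Finset.mem_filter.mp hb).2)

/-- A non-monomial element has no zero. -/
theorem Setup.ne_zero (hM : Setup M) {g : GL ι F} (hg : g ∈ M) (hgn : ¬ Mon g) (j k : ι) :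
    ((g⁻¹ : GL ι F) : Matrix ι ι F) j k ≠ 0 := by
  classical
  haveI := Fintype.ofFinite F
  intro hjk
  have hg' : g⁻¹ ∈ M := inv_mem hg
  have hgn' : ¬ Mon g⁻¹ := fun h => hgn (by simpa using h.inv)
  set r := fun m => ((g⁻¹ : GL ι F) : Matrix ι ι F) m k with hr
  set G := (g : Matrix ι ι F) with hG
  have hrne : ∀ m, m ≠ j → r m ≠ 0 := fun m hm h => hgn' (hM.mon_of_col hg' hm h hjk)
  have hcard := hM.card
  have hq : 5 ≤ Fintype.card F := by rw [← Nat.card_eq_fintype_card]; exact hM.q
  -- two columns with an entry in row `k`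
  obtain ⟨a, ha, b, hb, hab⟩ : ∃ a, (G k a ≠ 0 ∧ a ≠ j) ∧ ∃ b, (G k b ≠ 0 ∧ b ≠ j) ∧ a ≠ b := by
    have h1 : (Finset.univ.filter fun m => G k m = 0).card ≤ 1 := card_zero_row hM hg hgn k
    have h2 : (Finset.univ \ (insert j (Finset.univ.filter fun m => G k m = 0))).card > 1 := by
      have := Finset.le_card_sdiff (insert j (Finset.univ.filter fun m => G k m = 0)) Finset.univ
      have := Finset.card_insert_le j (Finset.univ.filter fun m => G k m = 0)
      rw [Finset.card_univ] at *
      omega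
    obtain ⟨a, ha, b, hb, hab⟩ := Finset.one_lt_card.mp h2
    simp at ha hb
    exact ⟨a, ⟨ha.2, ha.1⟩, b, ⟨hb.2, hb.1⟩, hab⟩
  set R := Finset.univ.filter fun m => m ≠ k ∧ G m a ≠ 0 ∧ G m b ≠ 0 with hR
  have hRc : 3 ≤ R.card := by
    have h1 : (Finset.univ.filter fun m => G m a = 0).card ≤ 1 := card_zero_col hM hg hgn a
    have h2 : (Finset.univ.filter fun m => G m b = 0).card ≤ 1 := card_zero_col hM hg hgn b
    have h3 : (Finset.univ : Finset ι) ⊆ R ∪ ({k} ∪ ((Finset.univ.filter fun m => G m a = 0) ∪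
        (Finset.univ.filter fun m => G m b = 0))) := fun m _ => by
      simp [hR]; tauto
    have := (Finset.card_le_card h3).trans (Finset.card_union_le _ _)
    have := Finset.card_union_le ({k} : Finset ι) ((Finset.univ.filter fun m => G m a = 0) ∪
        (Finset.univ.filter fun m => G m b = 0))
    have := Finset.card_union_le (Finset.univ.filter fun m => G m a = 0)
        (Finset.univ.filter fun m => G m b = 0)
    rw [Finset.card_univ, Finset.card_singleton] at *
    omega
  -- the new element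
  have new : ∀ A B : F, r a + A ≠ 0 → r b + B ≠ 0 →
      ∃ x ∈ M, ∀ m, (x : Matrix ι ι F) m k = (1 : Matrix ι ι F) m k + A * G m a + B * G m b := by
    intro A B hA hB
    set u : Fˣ := Units.mk0 ((r a + A) / r a) (div_ne_zero hA (hrne a ha.2))
    set v : Fˣ := Units.mk0 ((r b + B) / r b) (div_ne_zero hB (hrne b hb.2))
    refine ⟨g * (dg (pr a j u) * dg (pr b j v)) * g⁻¹,
      mul_mem (mul_mem hg (mul_mem (hM.mon.dg_mem (prod_pr a j u)) (hM.mon.dg_mem (prod_pr b j v)))) hg',
      fun m => ?_⟩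
    have hcol : ((g * (dg (pr a j u) * dg (pr b j v)) * g⁻¹ : GL ι F) : Matrix ι ι F) *ᵥ Pi.single k 1 =
        Pi.single k 1 + A • (fun r => G r a) + B • (fun r => G r b) := by
      have e : (dg (pr a j u) : Matrix ι ι F) *ᵥ ((dg (pr b j v) : Matrix ι ι F) *ᵥ r) =
          r + A • Pi.single a 1 + B • Pi.single b 1 := by
        rw [dg_mulVec, dg_mulVec]
        funext i
        by_cases hia : i = a
        · subst hia
          simp [pr_left ha.2, pr_other hab ha.2, Pi.single_eq_of_ne hab, u]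
          field_simp [hrne i ha.2]
        by_cases hib : i = b
        · subst hib
          simp [pr_other (Ne.symm hab) hb.2, pr_left hb.2, Pi.single_eq_of_ne (Ne.symm hab), v]
          field_simp [hrne i hb.2]
        by_cases hij : i = j
        · subst hij; simp [show r i = 0 from hjk, Pi.single_eq_of_ne hia, Pi.single_eq_of_ne hib]
        · simp [pr_other hia hij, pr_other hib hij, Pi.single_eq_of_ne hia, Pi.single_eq_of_ne hib]
      rw [Units.val_mul, Units.val_mul, Units.val_mul, ← mulVec_mulVec, ← mulVec_mulVec, ← mulVec_mulVec,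
        mulVec_single_one, show (((g⁻¹ : GL ι F) : Matrix ι ι F)).col k = r from rfl, e, mulVec_add,
        mulVec_add, mulVec_smul, mulVec_smul, mulVec_single_one, mulVec_single_one,
        show r = ((g⁻¹ : GL ι F) : Matrix ι ι F) *ᵥ Pi.single k 1 by rw [mulVec_single_one]; rfl,
        mulVec_inv_mulVec]
      rfl
    have h2 := congrFun hcol m
    rw [mulVec_single_one] at h2
    simp only [Matrix.col_apply, Pi.add_apply, Pi.smul_apply, smul_eq_mul] at h2
    rw [h2, Matrix.one_apply, Pi.single_apply]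
  have fin : ∀ A B : F, r a + A ≠ 0 → r b + B ≠ 0 → ∀ m₁ m₂ n₁ n₂ : ι, m₁ ≠ m₂ → n₁ ≠ n₂ →
      (1 : Matrix ι ι F) m₁ k + A * G m₁ a + B * G m₁ b = 0 →
      (1 : Matrix ι ι F) m₂ k + A * G m₂ a + B * G m₂ b = 0 →
      (1 : Matrix ι ι F) n₁ k + A * G n₁ a + B * G n₁ b ≠ 0 →
      (1 : Matrix ι ι F) n₂ k + A * G n₂ a + B * G n₂ b ≠ 0 → False := by
    intro A B hA hB m₁ m₂ n₁ n₂ hm hn z₁ z₂ e₁ e₂
    obtain ⟨x, hx, hxk⟩ := new A B hA hB
    obtain ⟨σ, hσ⟩ := hM.mon_of_col hx hm (by rw [hxk]; exact z₁) (by rw [hxk]; exact z₂)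
    have h1 : n₁ = σ k := by by_contra h; exact e₁ (by rw [← hxk]; exact hσ _ _ h)
    have h2 : n₂ = σ k := by by_contra h; exact e₂ (by rw [← hxk]; exact hσ _ _ h)
    exact hn (h1.trans h2.symm)
  set ρ := fun m => G m a / G m b with hρ
  have hRmem : ∀ m ∈ R, m ≠ k ∧ G m a ≠ 0 ∧ G m b ≠ 0 := fun m hm => (Finset.mem_filter.mp hm).2
  have hρe : ∀ m ∈ R, G m a = ρ m * G m b := fun m hm => by
    have := (hRmem m hm).2.2
    simp only [hρ]; field_simp
  by_cases hinj : ∀ m ∈ R, ∀ m' ∈ R, ρ m = ρ m' → m = m'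
  · set c₁ := G k a / G k b
    set c₂ := (G k a - 1 / r a) / G k b
    set c₃ := -(r b * G k a) / (1 - r b * G k b)
    have himg : (R.image ρ).card = R.card :=
      Finset.card_image_of_injOn (fun x hx y hy h => hinj x hx y hy h)
    obtain ⟨y, hy, hyn⟩ : ∃ y ∈ R.image ρ, y ∉ ({c₁, c₂, c₃} : Finset F) := by
      by_cases h4 : 4 ≤ R.card
      · exact Finset.exists_mem_notMem_of_card_lt_card (Finset.card_le_three.trans_lt (by rw [himg]; omega))
      -- each of the two columns has a further zero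
      have hz : ∀ a' b', (∀ m, m ∈ R ↔ m ≠ k ∧ G m a' ≠ 0 ∧ G m b' ≠ 0) → ∃ m, m ≠ k ∧ G m a' = 0 := by
        intro a' b' hR'
        by_contra hh
        push Not at hh
        have h2 : (Finset.univ.filter fun m => G m b' = 0).card ≤ 1 := card_zero_col hM hg hgn b'
        have h3 : (Finset.univ : Finset ι) ⊆ R ∪ ({k} ∪ (Finset.univ.filter fun m => G m b' = 0)) := fun m _ => by
          by_cases hmk : m = k
          · simp [hmk]
          by_cases hmb : G m b' = 0
          · simp [hmb]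
          exact Finset.mem_union_left _ ((hR' m).mpr ⟨hmk, hh m hmk, hmb⟩)
        have := (Finset.card_le_card h3).trans (Finset.card_union_le _ _)
        have := Finset.card_union_le ({k} : Finset ι) (Finset.univ.filter fun m => G m b' = 0)
        rw [Finset.card_univ, Finset.card_singleton] at *
        omega
      obtain ⟨za, hza, hza0⟩ := hz a b (fun m => by simp [hR])
      obtain ⟨zb, hzb, hzb0⟩ := hz b a (fun m => by simp [hR]; tauto)
      -- then `r a * G k a = 1` and `r b * G k b = 1`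
      have hcol : ∀ a' z, G z a' = 0 → ∃ n₁ n₂, n₁ ≠ n₂ ∧ (n₁ ≠ k ∧ G n₁ a' ≠ 0) ∧ n₂ ≠ k ∧ G n₂ a' ≠ 0 := by
        intro a' z hz'
        have h2 : (Finset.univ.filter fun m => G m a' = 0).card ≤ 1 := card_zero_col hM hg hgn a'
        have h3 : 1 < (Finset.univ \ ({k} ∪ Finset.univ.filter fun m => G m a' = 0)).card := by
          have := Finset.le_card_sdiff ({k} ∪ Finset.univ.filter fun m => G m a' = 0) Finset.univ
          have := Finset.card_union_le ({k} : Finset ι) (Finset.univ.filter fun m => G m a' = 0)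
          rw [Finset.card_univ, Finset.card_singleton] at *
          omega
        obtain ⟨n₁, h₁, n₂, h₂, hn⟩ := Finset.one_lt_card.mp h3
        simp at h₁ h₂
        exact ⟨n₁, n₂, hn, ⟨h₁.1, h₁.2⟩, h₂.1, h₂.2⟩
      have ea : r a * G k a = 1 := by
        by_contra hne
        obtain ⟨n₁, n₂, hn, ⟨hn₁, hn₁'⟩, hn₂, hn₂'⟩ := hcol a za hza0
        refine fin (-1 / G k a) 0 (fun h => hne ?_) (by simpa using hrne b hb.2) k za n₁ n₂
          (Ne.symm hza) hn ?_ ?_ ?_ ?_
        · have := ha.1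
          field_simp at h
          linear_combination h
        · have := ha.1
          rw [one_apply_eq]; field_simp; ring
        · rw [one_apply_ne hza, hza0]; ring
        · rw [one_apply_ne hn₁]
          simpa using ⟨ha.1, hn₁'⟩
        · rw [one_apply_ne hn₂]
          simpa using ⟨ha.1, hn₂'⟩
      have eb : r b * G k b = 1 := by
        by_contra hne
        obtain ⟨n₁, n₂, hn, ⟨hn₁, hn₁'⟩, hn₂, hn₂'⟩ := hcol b zb hzb0
        refine fin 0 (-1 / G k b) (by simpa using hrne a ha.2) (fun h => hne ?_) k zb n₁ n₂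
          (Ne.symm hzb) hn ?_ ?_ ?_ ?_
        · have := hb.1
          field_simp at h
          linear_combination h
        · have := hb.1
          rw [one_apply_eq]; field_simp; ring
        · rw [one_apply_ne hzb, hzb0]; ring
        · rw [one_apply_ne hn₁]
          simpa using ⟨hb.1, hn₁'⟩
        · rw [one_apply_ne hn₂]
          simpa using ⟨hb.1, hn₂'⟩
      have hc₂ : c₂ = 0 := by
        simp only [c₂, show 1 / r a = G k a by rw [eq_comm, eq_div_iff (hrne a ha.2)]; linear_combination ea,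
          sub_self, zero_div]
      have hc₃ : c₃ = 0 := by simp only [c₃, eb, sub_self, div_zero]
      refine Finset.exists_mem_notMem_of_card_lt_card ?_
      rw [hc₂, hc₃, himg, Finset.pair_eq_singleton]
      exact Finset.card_le_two.trans_lt (by omega)
    obtain ⟨m, hm, rfl⟩ := Finset.mem_image.mp hy
    simp only [Finset.mem_insert, Finset.mem_singleton, not_or] at hyn
    have hra := hrne a ha.2
    set Δ := G k b * ρ m - G k a with hΔ
    have hΔ0 : Δ ≠ 0 := fun h => hyn.1 (by
      simp only [c₁]; rw [eq_div_iff hb.1]; linear_combination h)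
    have hA : r a + 1 / Δ ≠ 0 := fun h => hyn.2.1 (by
      simp only [c₂]; rw [eq_div_iff hb.1]
      field_simp at h ⊢
      linear_combination h)
    have hB : r b + -ρ m / Δ ≠ 0 := fun h => by
      field_simp at h
      by_cases h1 : 1 - r b * G k b = 0
      · have : r b * G k a = 0 := by rw [hΔ] at h; linear_combination -h - ρ m * h1
        exact mul_ne_zero (hrne b hb.2) ha.1 this
      · refine hyn.2.2 ?_
        simp only [c₃]; rw [eq_div_iff h1]; rw [hΔ] at h; linear_combination -h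
    obtain ⟨m₁, hm₁, m₂, hm₂, h12⟩ := Finset.one_lt_card.mp (show 1 < (R.erase m).card by
      rw [Finset.card_erase_of_mem hm]; omega)
    have hval : ∀ m' ∈ R.erase m, (1 : Matrix ι ι F) m' k + 1 / Δ * G m' a + -ρ m / Δ * G m' b ≠ 0 := by
      intro m' hm' h
      have h' := Finset.mem_erase.mp hm'
      rw [one_apply_ne (hRmem m' h'.2).1, hρe m' h'.2] at h
      field_simp at h
      refine h'.1 (hinj _ h'.2 _ hm ?_)
      exact sub_eq_zero.mp ((mul_eq_zero.mp (show G m' b * (ρ m' - ρ m) = 0 by linear_combination h)).resolve_left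
        (hRmem m' h'.2).2.2)
    refine fin (1 / Δ) (-ρ m / Δ) hA hB k m m₁ m₂ (Ne.symm (hRmem m hm).1) h12 ?_ ?_ (hval _ hm₁) (hval _ hm₂)
    · rw [one_apply_eq]; field_simp; rw [hΔ]; ring
    · rw [one_apply_ne (hRmem m hm).1, hρe m hm]; ring
  · push Not at hinj
    obtain ⟨m, hm, m', hm', he, hne⟩ := hinj
    set y := ρ m with hy
    have hy0 : y ≠ 0 := div_ne_zero (hRmem m hm).2.1 (hRmem m hm).2.2
    obtain ⟨n₁, hn₁k, hn₁⟩ : ∃ n₁, n₁ ≠ k ∧ G n₁ a - y * G n₁ b ≠ 0 := by
      by_contra hh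
      push Not at hh
      -- then `r` would have at most two non-zero entries
      have e : G *ᵥ (Pi.single a 1 - y • Pi.single b 1) = (G k a - y * G k b) • (G *ᵥ r) := by
        rw [mulVec_sub, mulVec_smul, mulVec_single_one, mulVec_single_one,
          show r = ((g⁻¹ : GL ι F) : Matrix ι ι F) *ᵥ Pi.single k 1 by rw [mulVec_single_one]; rfl, hG,
          mulVec_inv_mulVec]
        funext i
        by_cases hi : i = k
        · subst hi; simp [hG]
        · simpa [Pi.single_eq_of_ne hi, hG] using hh i hi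
      rw [← mulVec_smul] at e
      have e' := mulVec_injective g e
      obtain ⟨l, hl⟩ : ∃ l, l ∉ ({a, b, j} : Finset ι) := by
        by_contra hh
        push Not at hh
        have := (Finset.card_le_card (show (Finset.univ : Finset ι) ⊆ {a, b, j} from fun x _ => hh x)).trans
          Finset.card_le_three
        rw [Finset.card_univ] at this
        omega
      simp only [Finset.mem_insert, Finset.mem_singleton, not_or] at hl
      have el' := congrFun e' l
      simp [Pi.single_eq_of_ne hl.1, Pi.single_eq_of_ne hl.2.1, hrne l hl.2.2] at el'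
      have ea := congrFun e' a
      simp [Pi.single_eq_of_ne hab, el'] at ea
    set w := G k a - y * G k b with hw
    obtain ⟨A, -, hA⟩ := Finset.exists_mem_notMem_of_card_lt_card
      (s := ({0, -r a, r b / y, -1 / w} : Finset F))
      (t := Finset.univ) (Finset.card_le_four.trans_lt (by rw [Finset.card_univ]; omega))
    simp only [Finset.mem_insert, Finset.mem_singleton, not_or] at hA
    have hz : ∀ x ∈ R, ρ x = y → (1 : Matrix ι ι F) x k + A * G x a + -(A * y) * G x b = 0 := fun x hx h => by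
      rw [one_apply_ne (hRmem x hx).1, hρe x hx, h]; ring
    refine fin A (-(A * y)) (fun h => hA.2.1 (by linear_combination h))
      (fun h => hA.2.2.1 (by field_simp; linear_combination -h)) m m' k n₁ hne (Ne.symm hn₁k)
      (hz m hm rfl) (hz m' hm' he.symm) ?_ ?_
    · rw [one_apply_eq]
      intro h
      by_cases hw0 : w = 0
      · exact one_ne_zero (α := F) (by linear_combination h - A * hw0)
      · exact hA.2.2.2 (by field_simp; linear_combination h)
    · rw [one_apply_ne hn₁k]
      intro h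
      exact mul_ne_zero hA.1 hn₁ (by linear_combination h)

/-- The main result on one-dimensional members. -/
theorem specialLinear_le_of_mon [Finite F] {M : Subgroup (GL ι F)} (hmon : HasMon M)
    (hsl : M ≤ Geo.specialLinear ι F) (hcard : 6 ≤ Fintype.card ι) (hq : 5 ≤ Nat.card F) {g : GL ι F}
    (hg : g ∈ M) (hgn : ¬ Mon g) : Geo.specialLinear ι F ≤ M := by
  classical
  by_cases hel : ∃ (i j : ι) (c : F), i ≠ j ∧ c ≠ 0 ∧ el i j c ∈ M
  · obtain ⟨i, j, c, hij, hc, h⟩ := hel
    exact specialLinear_le_of_el_mem (hmon.el_all (by omega) hij hc h)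
  push Not at hel
  have hM : Setup M := ⟨hmon, hsl, hel, hcard, hq⟩
  exfalso
  have hgn' : ¬ Mon g⁻¹ := fun h => hgn (by simpa using h.inv)
  have hG : ∀ x y, (g : Matrix ι ι F) x y ≠ 0 := fun x y => by
    simpa using hM.ne_zero (inv_mem hg) hgn' x y
  have hG' := hM.ne_zero hg hgn
  obtain ⟨a, b, hab⟩ := Fintype.exists_pair_of_one_lt_card (show 1 < Fintype.card ι by omega)
  -- conjugates of torus elements are not monomial
  have key : ∀ s : Fˣ, s ≠ 1 → ¬ Mon (g * dg (pr a b s) * g⁻¹) := by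
    intro s hs hx
    obtain ⟨σ, hσ⟩ := hx.exists_perm
    by_cases hfix : ∃ k, σ k = k
    · obtain ⟨k, hk⟩ := hfix
      set x := g * dg (pr a b s) * g⁻¹ with hxd
      have e1 : (x : Matrix ι ι F) *ᵥ Pi.single k 1 = (x : Matrix ι ι F) k k • Pi.single k 1 := by
        rw [hσ.mulVec_single, hk, ← Pi.single_smul', smul_eq_mul, mul_one]
      have e2 := congrArg (((g⁻¹ : GL ι F) : Matrix ι ι F) *ᵥ ·) e1
      simp only [hxd, Units.val_mul, ← mulVec_mulVec, inv_mulVec_mulVec, mulVec_smul] at e2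
      simp only [dg_mulVec, mulVec_single_one] at e2
      obtain ⟨l, hl⟩ : ∃ l, l ∉ ({a, b} : Finset ι) := by
        by_contra hh
        push Not at hh
        have := (Finset.card_le_card (show (Finset.univ : Finset ι) ⊆ {a, b} from fun x _ => hh x)).trans
          Finset.card_le_two
        rw [Finset.card_univ] at this
        omega
      simp only [Finset.mem_insert, Finset.mem_singleton, not_or] at hl
      have el' := congrFun e2 l
      have ea := congrFun e2 a
      simp only [Pi.smul_apply, smul_eq_mul, Matrix.col_apply, pr_other hl.1 hl.2, pr_left hab,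
        Units.val_one] at el' ea
      exact hs (Units.ext ((mul_right_cancel₀ (hG' a k) ea).trans (mul_right_cancel₀ (hG' l k) el').symm))
    · push Not at hfix
      obtain ⟨k₁⟩ : Nonempty ι := Fintype.card_pos_iff.mp (by omega)
      obtain ⟨k₂, -, h2⟩ := Finset.exists_mem_notMem_of_card_lt_card
        (s := ({k₁, σ.symm k₁} : Finset ι))
        (t := Finset.univ) (Finset.card_le_two.trans_lt (by rw [Finset.card_univ]; omega))
      obtain ⟨k₃, -, h3⟩ := Finset.exists_mem_notMem_of_card_lt_card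
        (s := ({k₁, σ.symm k₁} ∪ {k₂, σ.symm k₂} : Finset ι))
        (t := Finset.univ) ((Finset.card_union_le _ _).trans_lt (by
          have := Finset.card_le_two (a := k₁) (b := σ.symm k₁)
          have := Finset.card_le_two (a := k₂) (b := σ.symm k₂)
          rw [Finset.card_univ]; omega))
      simp only [Finset.mem_union, Finset.mem_insert, Finset.mem_singleton, not_or] at h2 h3
      exact tri hσ (conj_pr_apply g hab s) (k₁ := k₁) (k₂ := k₂) (k₃ := k₃) (fun k _ => hfix k)
        (Ne.symm h2.1) (fun e => h2.2 (by rw [e]; simp)) (Ne.symm h3.1.1)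
        (fun e => h3.1.2 (by rw [e]; simp)) (Ne.symm h3.2.1) (fun e => h3.2.2 (by rw [e]; simp))
  have ratio : ∀ m k, m ≠ k → (g : Matrix ι ι F) m a * ((g⁻¹ : GL ι F) : Matrix ι ι F) a k =
      (g : Matrix ι ι F) m b * ((g⁻¹ : GL ι F) : Matrix ι ι F) b k := by
    intro m k hmk
    set P := (g : Matrix ι ι F) m a * ((g⁻¹ : GL ι F) : Matrix ι ι F) a k with hP
    set Q := (g : Matrix ι ι F) m b * ((g⁻¹ : GL ι F) : Matrix ι ι F) b k with hQ
    by_contra hne
    have hP0 : P ≠ 0 := mul_ne_zero (hG m a) (hG' a k)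
    have hQ0 : Q ≠ 0 := mul_ne_zero (hG m b) (hG' b k)
    set s : Fˣ := Units.mk0 (Q / P) (div_ne_zero hQ0 hP0) with hs
    have hs1 : s ≠ 1 := fun h => hne (by
      have := congrArg Units.val h
      simp only [hs, Units.val_mk0, Units.val_one] at this
      exact ((div_eq_one_iff_eq hP0).mp this).symm)
    have hxM : g * dg (pr a b s) * g⁻¹ ∈ M :=
      mul_mem (mul_mem hg (hmon.dg_mem (prod_pr a b s))) (inv_mem hg)
    refine hM.ne_zero (inv_mem hxM) (fun h => key s hs1 (by simpa using h.inv)) m k ?_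
    rw [inv_inv, conj_pr_apply g hab, one_apply_ne hmk]
    have : (g : Matrix ι ι F) m a * (((s : F) - 1) * ((g⁻¹ : GL ι F) : Matrix ι ι F) a k) +
        (g : Matrix ι ι F) m b * ((((s⁻¹ : Fˣ) : F) - 1) * ((g⁻¹ : GL ι F) : Matrix ι ι F) b k) =
        ((s : F) - 1) * P + (((s⁻¹ : Fˣ) : F) - 1) * Q := by rw [hP, hQ]; ring
    rw [zero_add, this, Units.val_inv_eq_inv_val, hs, Units.val_mk0]
    field_simp
    ring
  -- two columns are proportional
  obtain ⟨k₁, k₂, hk⟩ := Fintype.exists_pair_of_one_lt_card (show 1 < Fintype.card ι by omega)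
  set κ := ((g⁻¹ : GL ι F) : Matrix ι ι F) b k₁ / ((g⁻¹ : GL ι F) : Matrix ι ι F) a k₁ with hκ
  obtain ⟨m₀, hm₀⟩ : ∃ m₀, m₀ ∉ ({k₁, k₂} : Finset ι) := by
    by_contra hh
    push Not at hh
    have := (Finset.card_le_card (show (Finset.univ : Finset ι) ⊆ {k₁, k₂} from fun x _ => hh x)).trans
      Finset.card_le_two
    rw [Finset.card_univ] at this
    omega
  simp only [Finset.mem_insert, Finset.mem_singleton, not_or] at hm₀
  have hall : ∀ m, (g : Matrix ι ι F) m a = κ * (g : Matrix ι ι F) m b := by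
    have hgen : ∀ m, m ≠ k₁ → (g : Matrix ι ι F) m a = κ * (g : Matrix ι ι F) m b := fun m hm => by
      have := ratio m k₁ hm
      rw [hκ, div_mul_eq_mul_div, eq_div_iff (hG' a k₁)]; linear_combination this
    intro m
    by_cases hm : m = k₁
    · subst hm
      have e0 := ratio m₀ k₂ hm₀.2
      rw [hgen m₀ hm₀.1] at e0
      have e2 : κ * ((g⁻¹ : GL ι F) : Matrix ι ι F) a k₂ = ((g⁻¹ : GL ι F) : Matrix ι ι F) b k₂ :=
        mul_left_cancel₀ (hG m₀ b) (by linear_combination e0)
      have e1 := ratio m k₂ hk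
      rw [← e2] at e1
      exact mul_right_cancel₀ (hG' a k₂) (by linear_combination e1)
    · exact hgen m hm
  have hcon := mulVec_injective g (show (g : Matrix ι ι F) *ᵥ Pi.single a 1 =
      (g : Matrix ι ι F) *ᵥ (κ • Pi.single b 1) by
    rw [mulVec_smul, mulVec_single_one, mulVec_single_one]
    funext m
    simpa using hall m)
  have := congrFun hcon a
  simp [Pi.single_eq_of_ne hab] at this

end Cfsg.Agent.MaxSub.Frame
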